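import Mathlib

/-!
# The combinatorial end of THEOREM S'' (helper11)

`Ar i j` : "`Y_i` does not normalise `N_j N_i`".  Every index has an arrow, every proper non-empty
set of indices contains a sink of the induced digraph.  Then the digraph is a directed cycle, and an
automorphism which fixes one index is the identity.
-/

namespace Cfsg.Agent.Omega.ESym.Comb

variable {ι : Type*} {Ar : ι → ι → Prop}

/-- every choice of arrows is transitive -/
theorem reach
    (sink : ∀ K : Set ι, K.Nonempty → K ≠ Set.univ → ∃ i ∈ K, ∀ j ∈ K, j ≠ i → ¬ Ar i j)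
    {f : ι → ι} (hf : ∀ i, f i ≠ i ∧ Ar i (f i)) (i j : ι) : ∃ t : ℕ, f^[t] i = j := by
  classical
  by_contra hcon
  obtain ⟨a, ⟨t, ht⟩, ha⟩ := sink {j | ∃ t : ℕ, f^[t] i = j} ⟨i, 0, rfl⟩
    (fun h => hcon (by
      have : j ∈ ({j | ∃ t : ℕ, f^[t] i = j} : Set ι) := by rw [h]; exact Set.mem_univ j
      exact this))
  exact ha (f a) ⟨t + 1, by rw [Function.iterate_succ_apply', ht]⟩ (hf a).1 (hf a).2

theorem surj
    (sink : ∀ K : Set ι, K.Nonempty → K ≠ Set.univ → ∃ i ∈ K, ∀ j ∈ K, j ≠ i → ¬ Ar i j)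
    {f : ι → ι} (hf : ∀ i, f i ≠ i ∧ Ar i (f i)) : Function.Surjective f := by
  intro y
  obtain ⟨t, ht⟩ := reach sink hf (f y) y
  refine ⟨f^[t] y, ?_⟩
  rw [← Function.iterate_succ_apply' f t y, Function.iterate_succ_apply]
  exact ht

/-- the arrow at `i` is unique -/
theorem unique [Finite ι]
    (sink : ∀ K : Set ι, K.Nonempty → K ≠ Set.univ → ∃ i ∈ K, ∀ j ∈ K, j ≠ i → ¬ Ar i j)
    {f : ι → ι} (hf : ∀ i, f i ≠ i ∧ Ar i (f i)) {i j : ι} (hj : j ≠ i) (hij : Ar i j) :
    j = f i := by
  classical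
  by_contra hne
  have hf' : ∀ a, Function.update f i j a ≠ a ∧ Ar a (Function.update f i j a) := by
    intro a
    by_cases h : a = i
    · subst h
      simpa using ⟨hj, hij⟩
    · rw [Function.update_of_ne h]
      exact hf a
  have hinj : Function.Injective f := Finite.injective_iff_surjective.mpr (surj sink hf)
  obtain ⟨a, ha⟩ := surj sink hf' (f i)
  by_cases h : a = i
  · subst h
    rw [Function.update_self] at ha
    exact hne ha
  · rw [Function.update_of_ne h] at ha
    exact h (hinj ha)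

/-- **the combinatorial end of THEOREM S''** -/
theorem fix_all [Finite ι] (Ar : ι → ι → Prop) (out : ∀ i, ∃ j, j ≠ i ∧ Ar i j)
    (sink : ∀ K : Set ι, K.Nonempty → K ≠ Set.univ → ∃ i ∈ K, ∀ j ∈ K, j ≠ i → ¬ Ar i j)
    (σ : Equiv.Perm ι) (h : ∀ i j, Ar i j → Ar (σ i) (σ j)) (i : ι) (hi : σ i = i) : σ = 1 := by
  choose f hf using out
  have key : ∀ t : ℕ, σ (f^[t] i) = f^[t] i := by
    intro t
    induction t with
    | zero => exact hi
    | succ t ih =>
      rw [Function.iterate_succ_apply']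
      refine unique sink hf ?_ ?_
      · intro hc
        have := (hf (f^[t] i)).1
        apply this
        apply σ.injective
        rw [hc, ih]
      · have := h _ _ (hf (f^[t] i)).2
        rwa [ih] at this
  ext j
  obtain ⟨t, ht⟩ := reach sink hf i j
  rw [Equiv.Perm.one_apply, ← ht]
  exact key t

end Cfsg.Agent.Omega.ESym.Comb
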