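import Cfsg.Agent.Omega.EK3.Rank
import Cfsg.Agent.Omega.EK3.Lever

/-!
# THEOREM S'' (helper787 #23621, helper7 #23986): the abstract core

Light pairs `ι`, `O = O₂(D)`, `Y j = C_G(d_l : l ≠ j)`, `N j = ⟨d_j^(Y j)⟩`, `EI I = ⟨ZJ^⟨Y i : i ∈ I⟩⟩`.

* `Core` : the hypotheses; `Core.local` : some nontrivial 2-group is normalised by all the `Y j`.
-/

set_option autoImplicit false
set_option linter.unusedSectionVars false

namespace Cfsg.Agent.Omega.ESym.CoreS

open Subgroup Cfsg Cfsg.Agent.ZN Cfsg.Agent.ZN.ChoiceBase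
open Cfsg.Agent.Omega.NO3S.EThree
open Cfsg.Agent.Omega.NO3S.EThree.ExactA (eab_mono eab_sup eab_iff)
open Cfsg.Agent.Omega.EK3.Rank (NoOn mem_inf_of_mem_AA jj_inf_le offd_of_mem)
open Cfsg.Agent.Omega.EK3.Lever (Dt)
open scoped commutatorElement

universe u

variable {G : Type u} [Group G]

/-- `EI I = ⟨ZJ^⟨Y i : i ∈ I⟩⟩` -/
def EI {ι : Type*} (ZJ : Subgroup G) (Y : ι → Subgroup G) (I : Set ι) : Subgroup G :=
  ⨆ y : (⨆ i : I, Y i : Subgroup G), cj (y : G) ZJ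

/-- `g` induces the permutation `σ` of the light pairs. -/
structure Sy {ι : Type*} (O : Subgroup G) (Y N : ι → Subgroup G) (g : G) (σ : Equiv.Perm ι) : Prop where
  O_eq : cj g O = O
  Y_eq : ∀ l, cj g (Y l) = Y (σ l)
  N_eq : ∀ l, cj g (N l) = N (σ l)

/-- **The hypotheses of THEOREM S''.** -/
structure Core {ι : Type*} (O D ZJ : Subgroup G) (Y N : ι → Subgroup G) : Prop where
  two : IsPGroup 2 O
  OY : ∀ i, O ≤ Y i
  OZ : O ≤ centralizer (ZJ : Set G)
  DY : ∀ i, D ≤ Y i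
  /-- at least three light pairs -/
  three : ∀ i j : ι, ∃ l, l ≠ i ∧ l ≠ j
  ne : Nonempty ι
  /-- `E_I` is elementary abelian and `≤ O` for proper `I` -/
  eab : ∀ I : Set ι, I ≠ Set.univ → IsElementaryAbelian 2 (EI ZJ Y I : Subgroup G) ∧ EI ZJ Y I ≤ O
  NE : ∀ i, N i ≤ EI ZJ Y {i}
  YN : ∀ i, Y i ≤ normalizer (N i : Set G)
  YQ : ∀ i, Y i ≤ normalizer ((O ⊓ centralizer (N i : Set G) : Subgroup G) : Set G)
  no : ∀ i, NoOn O (N i)
  /-- QP (LEMMA G'': some subgroup of `K ⊓ O` moves `N j`) -/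
  gen : ∀ j, ∀ K : Subgroup G, K ≤ Y j → Y j ≤ normalizer (K : Set G) → ¬ K ⊓ O ≤ centralizer (N j : Set G) →
    Y j ≤ K ⊔ D
  tr : ∀ i j, ∃ g, ∃ σ : Equiv.Perm ι, Sy O Y N g σ ∧ σ i = j
  sw : ∀ i j, i ≠ j → ∃ g, ∃ σ : Equiv.Perm ι, Sy O Y N g σ ∧ ((σ i = i ∧ σ j ≠ j) ∨ (σ i = j ∧ σ j = i))

section basic

variable {ι : Type*} {O D ZJ : Subgroup G} {Y N : ι → Subgroup G}

theorem EI_mono {I I' : Set ι} (h : I ⊆ I') : EI ZJ Y I ≤ EI ZJ Y I' := by
  have h1 : (⨆ i : I, Y i : Subgroup G) ≤ ⨆ i : I', Y i :=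
    iSup_le fun i => le_iSup (fun i : I' => Y i) ⟨i.1, h i.2⟩
  exact iSup_le fun y => le_iSup (fun y : (⨆ i : I', Y i : Subgroup G) => cj (y : G) ZJ) ⟨y.1, h1 y.2⟩

theorem EI_norm {I : Set ι} {i : ι} (hi : i ∈ I) : Y i ≤ normalizer (EI ZJ Y I : Set G) := by
  have hle : Y i ≤ (⨆ i : I, Y i : Subgroup G) := le_iSup (fun i : I => Y i) ⟨i, hi⟩
  have key : ∀ y ∈ Y i, cj y (EI ZJ Y I) ≤ EI ZJ Y I := by
    intro y hy
    unfold EI
    rw [cj, Subgroup.map_iSup]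
    refine iSup_le fun x => ?_
    have e : Subgroup.map (MulAut.conj y).toMonoidHom (cj (x : G) ZJ) = cj (y * x : G) ZJ := cj_cj y x ZJ
    rw [e]
    exact le_iSup (fun x : (⨆ i : I, Y i : Subgroup G) => cj (x : G) ZJ) ⟨y * x, mul_mem (hle hy) x.2⟩
  intro y hy
  rw [mem_normalizer_iff_cj]
  refine le_antisymm (key y hy) ?_
  have h1 := cj_mono y (key y⁻¹ (inv_mem hy))
  rwa [cj_cj_inv] at h1

theorem inv_r {ι : Type*} (σ : Equiv.Perm ι) (l : ι) : σ (σ⁻¹ l) = l := by simp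

theorem inv_l {ι : Type*} (σ : Equiv.Perm ι) (l : ι) : σ⁻¹ (σ l) = l := by simp

theorem jj_ne_bot [Finite G] {T : Subgroup G} (hT : IsPGroup 2 T) (hne : T ≠ ⊥) : jj T ≠ ⊥ := by
  have : Fact (Nat.Prime 2) := ⟨Nat.prime_two⟩
  have h2 : 2 ∣ Nat.card T := by
    rcases hT.card_eq_or_dvd with h3 | h3
    · exact absurd ((Subgroup.card_eq_one).1 h3) hne
    · exact h3
  obtain ⟨x, hx⟩ := exists_prime_orderOf_dvd_card' 2 h2
  have hx2 : (x : G) ^ 2 = 1 := by
    have := pow_orderOf_eq_one x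
    rw [hx] at this
    exact congrArg Subtype.val this
  have hx1 : (x : G) ≠ 1 := by
    intro e
    have : x = 1 := Subtype.ext e
    rw [this, orderOf_one] at hx
    omega
  have hA : IsElementaryAbelian 2 (zpowers (x : G)) := by
    rw [eab_iff]
    constructor
    · intro y hy
      rw [mem_centralizer_iff]
      intro z hz
      obtain ⟨a, rfl⟩ := mem_zpowers_iff.1 hy
      obtain ⟨b, rfl⟩ := mem_zpowers_iff.1 hz
      rw [← zpow_add, ← zpow_add, add_comm]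
    · intro y hy
      obtain ⟨a, rfl⟩ := mem_zpowers_iff.1 hy
      rw [← zpow_natCast, ← zpow_mul, mul_comm, zpow_mul, zpow_natCast, hx2, one_zpow]
  intro e
  obtain ⟨A, hA'⟩ := AA_nonempty T
  have h3 := card_le_mm hA (zpowers_le.2 x.2)
  rw [mm_eq hA'] at h3
  have h4 : A = ⊥ := eq_bot_iff.2 ((ChoiceBase.le_jj hA').trans e.le)
  rw [h4, Subgroup.card_bot] at h3
  have h5 : zpowers (x : G) = ⊥ := Subgroup.card_eq_one.1 (le_antisymm h3 Nat.card_pos)
  exact hx1 (zpowers_eq_bot.1 h5)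

theorem jj_norm [Finite G] (Q : Subgroup G) : normalizer (Q : Set G) ≤ normalizer (jj Q : Set G) :=
  normalizer_le_of_cj (F := jj) jj_cj Q

/-- a subgroup of the normaliser condition, finite case -/
theorem mem_norm_of_le [Finite G] {g : G} {H : Subgroup G} (h : cj g H ≤ H) : g ∈ normalizer (H : Set G) := by
  rw [mem_normalizer_iff_cj]
  exact Subgroup.eq_of_le_of_card_ge h (card_cj g H).ge

end basic

section core

variable [Finite G] {ι : Type*} {O D ZJ : Subgroup G} {Y N : ι → Subgroup G} (h : Core O D ZJ Y N)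
include h

theorem Core.N_le_EI {I : Set ι} {i : ι} (hi : i ∈ I) : N i ≤ EI ZJ Y I :=
  (h.NE i).trans (EI_mono (Set.singleton_subset_iff.2 hi))

theorem Core.ne_univ (i : ι) : ({i} : Set ι) ≠ Set.univ := by
  obtain ⟨l, hl, -⟩ := h.three i i
  intro e
  have : l ∈ ({i} : Set ι) := e ▸ Set.mem_univ l
  exact hl this

theorem Core.N_eab (i : ι) : IsElementaryAbelian 2 (N i : Subgroup G) :=
  eab_mono (h.eab _ (h.ne_univ i)).1 (h.NE i)

theorem Core.N_le_O (i : ι) : N i ≤ O := (h.NE i).trans (h.eab _ (h.ne_univ i)).2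

/-- (1) either the conclusion, or `J(O)` moves every `N j` -/
theorem Core.moves (hO : O ≠ ⊥) :
    (∃ R : Subgroup G, R ≠ ⊥ ∧ IsPGroup 2 R ∧ ∀ j, Y j ≤ normalizer (R : Set G)) ∨
      ∀ j, ∃ A ∈ AA O, ¬ A ≤ centralizer (N j : Set G) := by
  by_cases hc : ∀ j, ∃ A ∈ AA O, ¬ A ≤ centralizer (N j : Set G)
  · exact Or.inr hc
  left
  push Not at hc
  obtain ⟨j, hj⟩ := hc
  have e : jj O = jj (O ⊓ centralizer (N j : Set G)) := by
    refine le_antisymm ?_ (jj_inf_le (h.N_eab j) (h.N_le_O j) (h.no j))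
    rw [ChoiceBase.jj_eq O]
    exact sSup_le fun A hA => ChoiceBase.le_jj (mem_inf_of_mem_AA (h.N_eab j) (h.N_le_O j) (h.no j) hA (hj A hA))
  have h1 : Y j ≤ normalizer (jj O : Set G) := by
    rw [e]
    exact (h.YQ j).trans (jj_norm _)
  refine ⟨jj O, jj_ne_bot h.two hO, h.two.to_le (ChoiceBase.jj_le O), fun i => ?_⟩
  obtain ⟨g, σ, hg, hσ⟩ := h.tr j i
  have h2 := cj_mono g h1
  rwa [hg.Y_eq, hσ, cj_normalizer, ← jj_cj, hg.O_eq] at h2

/-- (2), (3): for every proper nonempty `I` some `j ∈ I` has `Y j ≤ N(N i N j)` for all `i ∈ I`. -/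
theorem Core.step (hm : ∀ j, ∃ A ∈ AA O, ¬ A ≤ centralizer (N j : Set G)) {I : Set ι} (hI : I ≠ Set.univ)
    (hne : I.Nonempty) : ∃ j ∈ I, ∀ i ∈ I, Y j ≤ normalizer ((N i ⊔ N j : Subgroup G) : Set G) := by
  obtain ⟨j0, hj0⟩ := hne
  obtain ⟨A, hA, hAm⟩ := hm j0
  obtain ⟨hE, hEO⟩ := h.eab I hI
  have hOE : O ≤ normalizer (EI ZJ Y I : Set G) := (h.OY j0).trans (EI_norm hj0)
  have hoff : Offd (EI ZJ Y I) A :=
    offd_of_mem hE hEO hA (hA.2.1.trans hOE) (h.N_le_EI hj0) hAm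
  have hdt : Dt O (EI ZJ Y I) ZJ (fun i : I => Y i) (fun i : I => N i) := by
    refine ⟨(eab_iff.1 hE).1, fun i => h.OY i, fun i => EI_norm i.2, h.OZ, le_rfl, fun i => h.N_le_EI i.2,
      fun i => h.YN i, fun i => h.YQ i, fun i F hF hFO => h.no i F hF hFO⟩
  obtain ⟨j, F, hFO, hFe, hFm, hF⟩ := hdt.lever hA.2.1 hA.1 hoff
  refine ⟨j, j.2, fun i hi => ?_⟩
  -- the normal closure of `F` in `Y j`
  let K : Subgroup G := ⨆ y : Y j, cj (y : G) F
  have hFY : F ≤ Y j := hFO.trans (h.OY j)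
  have hFK : F ≤ K := by
    have := le_iSup (fun y : Y j => cj (y : G) F) 1
    simpa only [OneMemClass.coe_one, cj_one] using this
  have hKY : K ≤ Y j := iSup_le fun y => by
    have := cj_mono (y : G) hFY
    rwa [cj_eq_of_mem_normalizer (Subgroup.le_normalizer y.2)] at this
  have hYK : Y j ≤ normalizer (K : Set G) := by
    intro y hy
    refine mem_norm_of_le ?_
    change cj y (⨆ x : Y j, cj (x : G) F) ≤ _
    rw [cj, Subgroup.map_iSup]
    refine iSup_le fun x => ?_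
    have e : Subgroup.map (MulAut.conj y).toMonoidHom (cj (x : G) F) = cj (y * x : G) F := cj_cj y x F
    rw [e]
    exact le_iSup (fun x : Y j => cj (x : G) F) ⟨y * x, mul_mem hy x.2⟩
  have hKm : ¬ K ⊓ O ≤ centralizer (N j : Set G) := fun hc => hFm ((le_inf hFK hFO).trans hc)
  have hKN : K ≤ normalizer ((N i ⊔ N j : Subgroup G) : Set G) := by
    refine iSup_le fun y => ?_
    intro x hx
    refine mem_norm_of_le ?_
    rw [cj, Subgroup.map_sup]
    have hxY : x ∈ Y j := hKY (le_iSup (fun y : Y j => cj (y : G) F) y hx)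
    refine sup_le ?_ ?_
    · rintro _ ⟨n, hn, rfl⟩
      change x * n * x⁻¹ ∈ _
      -- `x = y f y⁻¹`
      obtain ⟨f, hf, e⟩ := hx
      have e' : x = (y : G) * f * (y : G)⁻¹ := by rw [← e]; rfl
      have hnE : n ∈ EI ZJ Y I := h.N_le_EI hi hn
      have hn' : (y : G)⁻¹ * n * y ∈ EI ZJ Y I := by
        have := (mem_normalizer_iff.1 (EI_norm j.2 (inv_mem y.2)) n).1 hnE
        rwa [inv_inv] at this
      have h1 := hF _ hn' f hf
      have h2 : (y : G) * ⁅(y : G)⁻¹ * n * y, f⁆ * (y : G)⁻¹ ∈ N j :=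
        (mem_normalizer_iff.1 (h.YN j y.2) _).1 h1
      have h3 : ⁅n, x⁆ = (y : G) * ⁅(y : G)⁻¹ * n * y, f⁆ * (y : G)⁻¹ := by
        rw [e']
        simp only [commutatorElement_def]
        group
      have h4 : x * n * x⁻¹ = ⁅n, x⁆⁻¹ * n := by
        simp only [commutatorElement_def]
        group
      rw [h4]
      exact mul_mem (inv_mem (mem_sup_right (by rw [h3]; exact h2))) (mem_sup_left hn)
    · have h1 := cj_eq_of_mem_normalizer (h.YN j hxY)
      exact (le_of_eq h1).trans le_sup_right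
  have hDN : D ≤ normalizer ((N i ⊔ N j : Subgroup G) : Set G) := by
    intro x hx
    refine mem_norm_of_le ?_
    rw [cj, Subgroup.map_sup]
    exact sup_le_sup (cj_eq_of_mem_normalizer (h.YN i (h.DY i hx))).le
      (cj_eq_of_mem_normalizer (h.YN j (h.DY j hx))).le
  exact (h.gen j K hKY hYK hKm).trans (sup_le hKN hDN)

omit h [Finite G] in
theorem Sy.conj_rel {g : G} {σ : Equiv.Perm ι} (hg : Sy O Y N g σ) {i j : ι}
    (hr : Y j ≤ normalizer ((N i ⊔ N j : Subgroup G) : Set G)) :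
    Y (σ j) ≤ normalizer ((N (σ i) ⊔ N (σ j) : Subgroup G) : Set G) := by
  have h1 := cj_mono g hr
  rw [cj_normalizer] at h1
  have e : cj g (N i ⊔ N j) = N (σ i) ⊔ N (σ j) := by
    rw [← hg.N_eq, ← hg.N_eq]
    exact Subgroup.map_sup _ _ _
  rwa [hg.Y_eq, e] at h1

omit h [Finite G] in
theorem Sy.inv {g : G} {σ : Equiv.Perm ι} (hg : Sy O Y N g σ) : Sy O Y N g⁻¹ σ⁻¹ where
  O_eq := by
    conv_lhs => rw [← hg.O_eq]
    exact cj_inv_cj g O
  Y_eq := fun l => by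
    have := hg.Y_eq (σ⁻¹ l)
    rw [inv_r σ l] at this
    rw [← this, cj_inv_cj]
  N_eq := fun l => by
    have := hg.N_eq (σ⁻¹ l)
    rw [inv_r σ l] at this
    rw [← this, cj_inv_cj]

/-- **THEOREM S''**: the `Y j` normalise a common nontrivial 2-group. -/
theorem Core.local (hO : O ≠ ⊥) :
    ∃ R : Subgroup G, R ≠ ⊥ ∧ IsPGroup 2 R ∧ ∀ j, Y j ≤ normalizer (R : Set G) := by
  rcases h.moves hO with h1 | hm
  · exact h1
  obtain ⟨l⟩ := h.ne
  -- one `j` for all `i ≠ l`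
  obtain ⟨l', hl', -⟩ := h.three l l
  obtain ⟨j, hj, hjr⟩ := h.step hm (I := {l}ᶜ) (fun e => by
    have : l ∈ ({l}ᶜ : Set ι) := e ▸ Set.mem_univ l
    exact this rfl) ⟨l', hl'⟩
  have hjl : j ≠ l := hj
  -- `i = l` too
  have hl : Y j ≤ normalizer ((N l ⊔ N j : Subgroup G) : Set G) := by
    obtain ⟨g, σ, hg, ⟨h1, h2⟩ | ⟨h1, h2⟩⟩ := h.sw j l hjl
    · have h3 := hjr (σ l) h2
      have h4 := hg.inv.conj_rel h3
      have e1 : σ⁻¹ j = j := by rw [Equiv.Perm.inv_eq_iff_eq]; exact h1.symm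
      rwa [inv_l σ l, e1] at h4
    · have hne : ({j, l} : Set ι) ≠ Set.univ := by
        obtain ⟨m, hm1, hm2⟩ := h.three j l
        intro e
        have : m ∈ ({j, l} : Set ι) := e ▸ Set.mem_univ m
        rcases this with e1 | e1
        · exact hm1 e1
        · exact hm2 e1
      obtain ⟨m, hmm, hmr⟩ := h.step hm hne ⟨j, Or.inl rfl⟩
      rcases hmm with rfl | hmm
      · exact hmr l (Or.inr rfl)
      · have e : m = l := hmm
        subst e
        have h3 := hg.conj_rel (hmr j (Or.inl rfl))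
        rwa [h1, h2] at h3
  have hall : ∀ i, Y j ≤ normalizer ((N i ⊔ N j : Subgroup G) : Set G) := by
    intro i
    by_cases hi : i = l
    · rw [hi]; exact hl
    · exact hjr i hi
  have hall' : ∀ i k, Y k ≤ normalizer ((N i ⊔ N k : Subgroup G) : Set G) := by
    intro i k
    obtain ⟨g, σ, hg, hσ⟩ := h.tr j k
    have h1 := hg.conj_rel (hall (σ⁻¹ i))
    rwa [inv_r σ i, hσ] at h1
  refine ⟨⨆ i, N i, ?_, h.two.to_le (iSup_le h.N_le_O), fun k => ?_⟩
  · obtain ⟨A, -, hA⟩ := hm l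
    intro e
    apply hA
    have h1 : N l = ⊥ := eq_bot_iff.2 ((le_iSup N l).trans e.le)
    rw [h1]
    intro x _
    rw [mem_centralizer_iff]
    intro y hy
    rw [SetLike.mem_coe, mem_bot] at hy
    rw [hy, one_mul, mul_one]
  · intro x hx
    refine mem_norm_of_le ?_
    rw [cj, Subgroup.map_iSup]
    refine iSup_le fun i => ?_
    have h1 : cj x (N i) ≤ N i ⊔ N k := by
      refine (cj_mono x (le_sup_left (b := N k))).trans ?_
      exact (cj_eq_of_mem_normalizer (hall' i k hx)).le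
    exact h1.trans (sup_le (le_iSup N i) (le_iSup N k))

end core

end Cfsg.Agent.Omega.ESym.CoreS
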