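import Cfsg.Agent.Omega.OM.Lev.SymT

/-!
# THEOREM S (#23621, helper787): the elements which interchange two pairs of one factor (helper100)

`SyL T H Q V Jg ⊥ AA o e`, `Ch Jg H V ⊥ o e J X Y t r`; `d i = {X i, Y i}` in the factor `J i`.

* `exists_swap` : `i ≠ j`, `J i = J j`: some `g ∈ H` interchanges `d i` and `d j` and fixes the other `d l`.
-/

set_option autoImplicit false
set_option linter.unusedSectionVars false

namespace Cfsg.Agent.Omega.ESym

open Subgroup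
open Cfsg.Agent.Omega.FFThm (ActsSym)
open Cfsg.Agent.Omega.SQ1.FFSym
open Cfsg.Agent.Omega.OM.Lev.SymIn Cfsg.Agent.Omega.OM.Lev.SymIn.SyL

universe v

variable {G : Type v} [Group G] {T H Q V D Jg : Subgroup G} {AA : Set (Subgroup G)} {k n : ℕ} {o : Fin n}
  {e : G → Fin k → Fin n → ZMod 2} {ι : Type} {J : ι → Fin k} {X Y : ι → Fin n} {t r : ι → G}

/-- **the pairs of one factor can be interchanged** -/
theorem exists_swap (h : SyL T H Q V Jg D AA o e) (c : Ch Jg H V D o e J X Y t r) {i j : ι} (hij : i ≠ j)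
    (hJ : J i = J j) : ∃ g ∈ H, (g * u H V D e (J i) (X i) (Y i) * g⁻¹ = u H V D e (J j) (X j) (Y j)) ∧
      (g * u H V D e (J j) (X j) (Y j) * g⁻¹ = u H V D e (J i) (X i) (Y i)) ∧
      ∀ l, l ≠ i → l ≠ j → g * u H V D e (J l) (X l) (Y l) * g⁻¹ = u H V D e (J l) (X l) (Y l) := by
  obtain ⟨h1, h2, h3, h4⟩ := c.cases h hij hJ
  have hi : X i ≠ Y i := (c.tr i).1
  have hj : X j ≠ Y j := (c.tr j).1
  set τ : Equiv.Perm (Fin n) := Equiv.swap (X i) (X j) * Equiv.swap (Y i) (Y j) with hτ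
  obtain ⟨g, hg⟩ := h.exists_gd (Pi.mulSingle (J i) τ)
  have hc := fun (j' : Fin k) (a b : Fin n) => h.u_conj hg.mem hg.act j' a b
  refine ⟨g, hg.mem, ?_, ?_, ?_⟩
  · rw [hc, Equiv.Perm.one_apply, Pi.mulSingle_eq_same, ← hJ]
    congr 1
    · rw [hτ, Equiv.Perm.mul_apply, Equiv.swap_apply_of_ne_of_ne hi h2, Equiv.swap_apply_left]
    · rw [hτ, Equiv.Perm.mul_apply, Equiv.swap_apply_left, Equiv.swap_apply_of_ne_of_ne h2.symm hj.symm]
  · rw [hc, Equiv.Perm.one_apply, ← hJ, Pi.mulSingle_eq_same]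
    congr 1
    · rw [hτ, Equiv.Perm.mul_apply, Equiv.swap_apply_of_ne_of_ne h3.symm hj, Equiv.swap_apply_right]
    · rw [hτ, Equiv.Perm.mul_apply, Equiv.swap_apply_right, Equiv.swap_apply_of_ne_of_ne hi.symm h3]
  · intro l hli hlj
    rw [hc, Equiv.Perm.one_apply]
    by_cases hJl : J l = J i
    · obtain ⟨a1, a2, a3, a4⟩ := c.cases h hli hJl
      obtain ⟨b1, b2, b3, b4⟩ := c.cases h hlj (hJl.trans hJ)
      rw [hJl, Pi.mulSingle_eq_same]
      congr 1
      · rw [hτ, Equiv.Perm.mul_apply, Equiv.swap_apply_of_ne_of_ne a2 b2, Equiv.swap_apply_of_ne_of_ne a1 b1]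
      · rw [hτ, Equiv.Perm.mul_apply, Equiv.swap_apply_of_ne_of_ne a4 b4, Equiv.swap_apply_of_ne_of_ne a3 b3]
    · rw [Pi.mulSingle_eq_of_ne hJl]
      rfl

end Cfsg.Agent.Omega.ESym
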