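import Cfsg.Agent.Omega.NO3S.ESym.Frame
import Cfsg.Agent.Omega.TC.UniLev
import Cfsg.Agent.Omega.OM.KZero
import Cfsg.Agent.Omega.ESym.Swap

/-!
# The light frame of symmetric blocks at every stage (THEOREM S'', #23971, #23986, #24003)

`LF S P B ZJ N` : `ι` = the transpositions of `C_S(ZJ)` with coordinates (`SyL`, `Ch`, `SymOut`), the FF-blocks `L i`
over `B`, the frame `FrL`, UNI+ (`UniI`).

* `exists_neg`, `exists_lev`, `exists_light` : the light frame at every stage of `HypL`;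
* `LF.trans` : `S` is transitive on the light pairs; `LF.exists_brother`.
-/

set_option autoImplicit false
set_option linter.unusedSectionVars false
set_option linter.unusedVariables false

namespace Cfsg.Agent.Omega.ESym.Light

open Subgroup Cfsg Cfsg.Agent.PLocal.ThompsonJ Cfsg.Agent.ZN.ChoiceBase Cfsg.Agent.ZN.ChoiceSit
open Cfsg.Agent.ZN (jj zj bau zc zl o2)
open Cfsg.Agent.Omega.SQ1 Cfsg.Agent.Omega.SQ1.FFOne Cfsg.Agent.Omega.SQ1.FFSym
open Cfsg.Agent.Omega.FFThm (ActsSym SymK SymKM OffM ElemM)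
open Cfsg.Agent.Omega.FrameFF (cv)
open Cfsg.Agent.Omega.NO3S (HypL HypF HypN HypJ Hyp)
open Cfsg.Agent.Omega.NO3S.Level (lev nxt Lev BO lev_isLev)
open Cfsg.Agent.Omega.OM Cfsg.Agent.Omega.OM.Uni
open Cfsg.Agent.Omega.OM.Lev.SymIn (SyL)
open Cfsg.Agent.Omega.OM.Lev.SymIn.SyL (Ch)
open Cfsg.Agent.Omega.OM.Lev.Sym (SymOut)
open Cfsg.Agent.Omega.OM.Lev.SIn (Blk)
open Cfsg.Agent.Omega.OM.Lev.Uni (FrL Best)
open Cfsg.Agent.Omega.OM.FrSym (CC)
open Cfsg.Agent.Omega.Node.MultiOf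
open Cfsg.Agent.Omega.NO3S.ESym (UniI)
open scoped Pointwise

universe w

variable {G : Type w} [Group G]

/-- **The light frame.** -/
structure LF [Finite G] (S : Sylow 2 G) (P B ZJ : Subgroup G) {k m : ℕ}
    (N : SymKM (S : Subgroup G) P (zl (S : Subgroup G) P) (cv (S : Subgroup G) P) k m) where
  (Jg Xf : Subgroup G)
  (AA : Set (Subgroup G))
  ι : Type
  J : ι → Fin k
  (X X' : ι → Fin (2 ^ m + 1))
  (t r : ι → G)
  (L A : ι → Subgroup G)
  fi : Finite ι
  sy : SyL (S : Subgroup G) P (o2 P) (zl (S : Subgroup G) P) Jg ⊥ AA (0 : Fin (2 ^ m + 1)) N.e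
  ch : Ch Jg P (zl (S : Subgroup G) P) ⊥ 0 N.e J X X' t r
  out : SymOut (S : Subgroup G) P (zl (S : Subgroup G) P) Jg (fun i => sy.NN (J i) 0 (X i) (X' i))
    (fun i => u P (zl (S : Subgroup G) P) ⊥ N.e (J i) (X i) (X' i)) t r
  blk : ∀ i, Blk P (S : Subgroup G) (zl (S : Subgroup G) P) ZJ
    (fun i => u P (zl (S : Subgroup G) P) ⊥ N.e (J i) (X i) (X' i)) r i (L i)
  eqv : ∀ x ∈ (S : Subgroup G), ∀ i j, x * u P (zl (S : Subgroup G) P) ⊥ N.e (J i) (X i) (X' i) * x⁻¹ =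
    u P (zl (S : Subgroup G) P) ⊥ N.e (J j) (X j) (X' j) → cj x (L i) = L j
  frl : FrL B (o2 P) (zl (S : Subgroup G) P) Xf ZJ L (fun i => sy.NN (J i) 0 (X i) (X' i))
    (fun i => zpowers (u P (zl (S : Subgroup G) P) ⊥ N.e (J i) (X i) (X' i)))
    (CC fun i => sy.NN (J i) 0 (X i) (X' i)) A 2
  uni : UniI B ZJ L fun i => sy.NN (J i) 0 (X i) (X' i)

/-! ### A level -/

section lev

variable [Finite G] {S : Sylow 2 G} {P : Subgroup G}

/-- **The light frame at the stage `n`.** -/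
theorem exists_lev (h : HypN S P) {n : ℕ} (hn : lev (S : Subgroup G) n ≤ o2 P)
    (hn1 : ¬ lev (S : Subgroup G) (n + 1) ≤ o2 P) {k m : ℕ} (hk : 0 < k) (hm : 1 ≤ m)
    (N : SymKM (S : Subgroup G) P (zl (S : Subgroup G) P) (cv (S : Subgroup G) P) k m) :
    Nonempty (LF S P ((S : Subgroup G) ⊓ centralizer (zc (lev (S : Subgroup G) (n + 1)) : Set G))
      (zc (lev (S : Subgroup G) (n + 1))) N) := by
  have hG := h.ctx.char2
  have hL := lev_isLev (S : Subgroup G) n
  have hcen := h.toHyp.inf_eq_bot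
  have hJ := NO3S.exists_BO hG h.star hn hn1
  obtain ⟨hx, hc⟩ := NO3S.OneLine.exa_lev FF.Glob.ffthmM hG h.star hL hn hcen hJ
  have e1 := (NO3S.OneLine.lev_eq FF.Glob.ffthmM hG h.star hL hn hcen hJ).2
  have e2 : Lev.SIn.ZJ (zl (S : Subgroup G) P) (nxt (S : Subgroup G) (lev (S : Subgroup G) n)) =
      zc (lev (S : Subgroup G) (n + 1)) := e1.symm
  obtain ⟨ι, J, U, Y, t, r, h0, Lb, A, c, hs, hLb, hcj, hAJ, hF⟩ := Lev.Sym.exists_frame hx hk hm N
    (hx.cv_eq_bot_sym N) (hx.zc_o2_sym N hk hm) (NO3S.Level.nxt_le _ _) (Lev.Sym.nxt_norm hL)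
    (fun A hA => NO3S.Level.BO.le_nxt hA) (Lev.Sym.nxt_le_sup _ _)
  rw [e2] at hLb hF
  have hfin : Finite ι := hs.bau.finite_index
  have hu : UniI ((S : Subgroup G) ⊓ centralizer (zc (lev (S : Subgroup G) (n + 1)) : Set G))
      (zc (lev (S : Subgroup G) (n + 1))) Lb fun i => h0.NN (J i) 0 (U i) (Y i) := by
    intro L' V' h'
    obtain ⟨-, -, i, -, -, -, -, h1⟩ := TC.UniLev.uni_all S rfl rfl hF h'
    exact ⟨i, h1 rfl⟩
  exact ⟨{
    Jg := nxt (S : Subgroup G) (lev (S : Subgroup G) n)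
    Xf := zc (lev (S : Subgroup G) n)
    AA := _
    ι := ι
    J := J
    X := U
    X' := Y
    t := t
    r := r
    L := Lb
    A := A
    fi := hfin
    sy := h0
    ch := c
    out := hs
    blk := hLb
    eqv := hcj
    frl := hF
    uni := hu }⟩

end lev

/-! ### `S` is transitive on the light pairs -/

section trans

variable {T H Q V D Jg : Subgroup G} {AA : Set (Subgroup G)} {k n : ℕ} {o : Fin n}
  {e : G → Fin k → Fin n → ZMod 2} {ι : Type} {J : ι → Fin k} {X Y : ι → Fin n} {t r : ι → G}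

/-- **`T` is transitive on the light pairs.** -/
theorem tr_conj (h : SyL T H Q V Jg D AA o e) [Finite G] (c : Ch Jg H V D o e J X Y t r) (i j : ι) :
    ∃ s ∈ T, s * u H V D e (J i) (X i) (Y i) * s⁻¹ = u H V D e (J j) (X j) (Y j) := by
  obtain ⟨s₁, hs₁, σ, τ, ha, hσ⟩ := h.trans (J i) (J j)
  have h1 := SyL.Tr.conj h (c.tr i) hs₁ ha
  rw [hσ] at h1
  obtain ⟨s₂, hs₂, π, hπ, hπx⟩ := h.cyc_T Cfsg.Agent.Omega.SQ1.SymCyc.exists_pow (J j) (h1.ne h).1.symm
    ((c.tr j).ne h).1.symm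
  have h2 := SyL.Tr.conj h h1 hs₂ hπ.act
  rw [Equiv.Perm.one_apply, Pi.mulSingle_eq_same, hπx] at h2
  have h3 := SyL.Tr.disj h h2 (c.tr j)
  refine ⟨s₂ * s₁, mul_mem hs₂ hs₁, ?_⟩
  have e1 : s₂ * s₁ * u H V D e (J i) (X i) (Y i) * (s₂ * s₁)⁻¹ =
      s₂ * (s₁ * u H V D e (J i) (X i) (Y i) * s₁⁻¹) * s₂⁻¹ := by group
  rw [e1, h.u_conj (h.TH hs₁) ha, h.u_conj (h.TH hs₂) hπ.act, hσ, Equiv.Perm.one_apply, Pi.mulSingle_eq_same, hπx, h3]

/-- every point `≠ o` of every component lies in a light pair -/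
theorem exists_idx (h : SyL T H Q V Jg D AA o e) [Finite G] (c : Ch Jg H V D o e J X Y t r) (j : Fin k) {x : Fin n}
    (hx : x ≠ o) : ∃ i, J i = j ∧ (X i = x ∨ Y i = x) := by
  obtain ⟨y, hy⟩ := h.cover Cfsg.Agent.Omega.SQ1.SymCyc.exists_pow j hx
  obtain ⟨i, hi, -, -, ⟨h1, -⟩ | ⟨-, h1⟩⟩ := c.exists_idx h hy
  · exact ⟨i, hi, Or.inl h1⟩
  · exact ⟨i, hi, Or.inr h1⟩

/-- **brothers** : `n ≥ 4`: every light pair has another one in its component -/
theorem exists_bro (h : SyL T H Q V Jg D AA o e) [Finite G] (c : Ch Jg H V D o e J X Y t r) (hn : 4 ≤ n) (i : ι) :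
    ∃ j, j ≠ i ∧ J j = J i := by
  obtain ⟨x, h1, h2, h3⟩ : ∃ x : Fin n, x ≠ o ∧ x ≠ X i ∧ x ≠ Y i := by
    by_contra hcon
    push Not at hcon
    have h1 : (Finset.univ : Finset (Fin n)) ⊆ {o, X i, Y i} := by
      intro z _
      by_cases hz : z = o
      · simp [hz]
      · by_cases hz2 : z = X i
        · simp [hz2]
        · simp [hcon z hz hz2]
    have h2 := Finset.card_le_card h1
    have h3 := Finset.card_le_three (a := o) (b := X i) (c := Y i)
    rw [Finset.card_univ, Fintype.card_fin] at h2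
    omega
  obtain ⟨j, hj, h4⟩ := exists_idx h c (J i) h1
  refine ⟨j, ?_, hj⟩
  rintro rfl
  rcases h4 with h4 | h4
  · exact h2 h4.symm
  · exact h3 h4.symm

end trans

/-! ### Stage `-1` -/

section neg

variable [Finite G] {S : Sylow 2 G} {P : Subgroup G}

/-- Thompson: a largest elementary abelian subgroup of `S` is a best offender on every `V ≤ S`. -/
theorem best_of_AA {V A : Subgroup G} (hV : IsElementaryAbelian 2 V) (hVS : V ≤ (S : Subgroup G))
    (hA : A ∈ AA (S : Subgroup G)) : Best V A := by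
  intro F hF1 hF2
  have hc : F ≤ centralizer ((V ⊓ centralizer (F : Set G) : Subgroup G) : Set G) := fun f hf =>
    mem_centralizer_iff.2 fun v hv => (mem_centralizer_iff.1 hv.2 f hf).symm
  have hFe := isElementaryAbelian_mono hA.1 hF2
  have hCe := isElementaryAbelian_mono hV (inf_le_left (b := centralizer (F : Set G)))
  have h1 := Cfsg.Agent.PLocal.ElemAbSup.isElementaryAbelian_sup hCe hFe hc
  have h2 := hA.2.2 _ h1 (sup_le (inf_le_left.trans hVS) (hF2.trans hA.2.1))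
  have h3 := Cfsg.Agent.PLocal.ElemAbSup.card_sup_mul_card_inf hc
  have h4 : Nat.card ↥((V ⊓ centralizer (F : Set G)) ⊓ F) ≤ Nat.card ↥(V ⊓ centralizer (A : Set G)) := by
    refine Subgroup.card_le_of_le (le_inf (inf_le_left.trans inf_le_left) fun x hx => mem_centralizer_iff.2 fun a ha => ?_)
    exact congrArg (fun t : A => (t : G)) (hA.1.1.is_comm.comm ⟨a, ha⟩ ⟨x, hF2 hx.2⟩)
  calc Nat.card F * Nat.card ↥(V ⊓ centralizer (F : Set G)) =
      Nat.card ↥(V ⊓ centralizer (F : Set G)) * Nat.card F := mul_comm _ _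
    _ = _ := h3.symm
    _ ≤ _ := Nat.mul_le_mul h2 h4

/-- **The light frame at the stage `-1`.** -/
theorem exists_neg (h : HypJ S P) {k m : ℕ} (hk : 0 < k) (hm : 2 ≤ m)
    (N : SymKM (S : Subgroup G) P (zl (S : Subgroup G) P) (cv (S : Subgroup G) P) k m) :
    Nonempty (LF S P (bau (S : Subgroup G)) (zj (S : Subgroup G)) N) := by
  obtain ⟨ι, J, X, Y, t, r, h0, c, h2⟩ := symOut h.toHyp.syl h.star.toIsMinPar
    (h.star.isLoc.char2 S h.ctx.char2) h.jnot hk (by omega) N.toSymK h.toHyp.cv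
  obtain ⟨L, A, hL, hc, hA, hF⟩ := FrSym.symFr h2 (Uni.mx_sylow S)
  have hfin : Finite ι := h2.bau.finite_index
  have sy : SyL (S : Subgroup G) P (o2 P) (zl (S : Subgroup G) P) (jj (S : Subgroup G)) ⊥ (AA (S : Subgroup G))
      (0 : Fin (2 ^ m + 1)) N.e :=
    { toSy := h0.toSy
      TH := h0.TH
      Tp := h0.Tp
      QT := h0.QT
      VQ := h0.VQ
      Qn := h0.Qn
      VcQ := h0.VcQ
      cT := h0.cT
      syl := h0.syl
      trans := h0.trans
      fix0 := h0.fix0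
      gen := h0.gen
      JT := jj_le _
      Jn := fun x hx y hy => SyT.J_norm hx hy
      AJ := fun A hA => le_jj hA
      Jle := by rw [jj_eq]; exact le_sup_left
      offD := h0.offD
      nJ := h0.nJ
      cycle := h0.cycle
      prop := h0.prop }
  have ch : Ch (jj (S : Subgroup G)) P (zl (S : Subgroup G) P) ⊥ 0 N.e J X Y t r :=
    ⟨c.tr, c.tJ, c.tg, c.rg, c.inj, c.ex⟩
  have out := Lev.Sym.symOut_of sy ch h2.zc_eq
  have two : ∀ i : ι, ∃ j, j ≠ i := fun i => by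
    have h6 : 2 ^ 2 ≤ 2 ^ m := Nat.pow_le_pow_right (by norm_num) hm
    obtain ⟨j, hj, -⟩ := exists_bro sy ch (by omega) i
    exact ⟨j, hj⟩
  have line : Line S P L (fun i => h0.NN (J i) 0 (X i) (Y i))
      (fun i => zpowers (u P (zl (S : Subgroup G) P) ⊥ N.e (J i) (X i) (Y i)))
      (fun i => CC (fun i => h0.NN (J i) 0 (X i) (Y i)) i) A 2 := ⟨h, hF, two⟩
  have htr : ∀ i j : ι, ∃ s ∈ (S : Subgroup G), cj s (zpowers (u P (zl (S : Subgroup G) P) ⊥ N.e (J i) (X i) (Y i))) =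
      zpowers (u P (zl (S : Subgroup G) P) ⊥ N.e (J j) (X j) (Y j)) := by
    intro i j
    obtain ⟨s, hs, e⟩ := tr_conj sy ch i j
    refine ⟨s, hs, ?_⟩
    rw [cj, MonoidHom.map_zpowers]
    exact congrArg zpowers e
  have hVS : zl (S : Subgroup G) P ≤ (S : Subgroup G) := h0.VQ.trans h0.QT
  exact ⟨{
    Jg := jj (S : Subgroup G)
    Xf := zl (S : Subgroup G) P
    AA := AA (S : Subgroup G)
    ι := ι
    J := J
    X := X
    X' := Y
    t := t
    r := r
    L := L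
    A := A
    fi := hfin
    sy := sy
    ch := ch
    out := out
    blk := fun i => ⟨(hL i).BL, (hL i).LP, (hL i).mv, (hL i).min⟩
    eqv := hc
    frl :=
      { blk := hF.blk
        cardZ := hF.cardZ
        QB := hF.QB
        VQ := hF.VQ
        elX := hF.el
        VX := le_rfl
        mem_Q := hF.mem_Q
        zcQ := hF.zcQ
        mem_ZJ := hF.mem_ZJ
        LV := hF.LV
        LQ := hF.LQ
        LX := hF.LV
        WV := hF.WV
        CV := hF.CV
        WC := hF.WC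
        dir := hF.dir
        C0 := hF.C0
        WjC := hF.WjC
        BC := hF.BC
        LC := hF.LC
        AB := hF.AB
        AX := fun i => FFThm.ElemM.of_elem (hF.Ael i)
        best := fun i => best_of_AA hF.el hVS (hA i)
        Ane := hF.Ane
        AC := hF.AC }
    uni := fun L' V' h' => by
      obtain ⟨⟨Z', q', h1⟩, h3⟩ := h'
      obtain ⟨i, -, h4, h5⟩ := line.uniTwo htr h1 h3
      exact ⟨i, h4, h5⟩ }⟩

end neg

/-! ### All stages -/

/-- **The light frame at every stage.** -/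
theorem exists_light [Finite G] {S : Sylow 2 G} {P K B ZJ : Subgroup G} (h : HypN S P) (st : StgP S P K B ZJ)
    {k m : ℕ} (hk : 0 < k) (hm : 2 ≤ m)
    (N : SymKM (S : Subgroup G) P (zl (S : Subgroup G) P) (cv (S : Subgroup G) P) k m) :
    Nonempty (LF S P B ZJ N) := by
  cases st with
  | neg hj => exact exists_neg ⟨h, hj⟩ hk hm N
  | lev n hall hn hn1 => exact exists_lev h hn hn1 hk (by omega) N

end Cfsg.Agent.Omega.ESym.Light
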