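import Cfsg.Agent.Omega.ESym.CoreS

/-!
# THEOREM S''T (helper164 #27334): the abstract core of THEOREM S'' without the hypothesis `sw`

* `CoreR` : the hypotheses of `CoreS.Core` without `sw`;
* `CoreR.step` : for every proper nonempty `I` some `j ∈ I` has `Y j ≤ N(N i N j)` for all `i ∈ I`;
* `CoreR.local_of_fix` : if some symmetry fixes one pair and moves another one, the `Y j` normalise a common nontrivial
  2-group;
* `CoreR.local_or_cyc` : or there is a permutation `τ` of the pairs, transitive, which commutes with all symmetries;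
  `CoreR.local_or_comm` : or the symmetries commute and act semiregularly.
-/

set_option autoImplicit false
set_option linter.unusedSectionVars false
set_option linter.dupNamespace false

namespace Cfsg.Agent.Omega.ESym.CoreR

open Subgroup Cfsg Cfsg.Agent.ZN Cfsg.Agent.ZN.ChoiceBase
open Cfsg.Agent.Omega.NO3S.EThree
open Cfsg.Agent.Omega.NO3S.EThree.ExactA (eab_mono eab_sup eab_iff)
open Cfsg.Agent.Omega.EK3.Rank (NoOn mem_inf_of_mem_AA jj_inf_le offd_of_mem)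
open Cfsg.Agent.Omega.EK3.Lever (Dt)
open Cfsg.Agent.Omega.ESym.CoreS
open scoped commutatorElement

universe u

variable {G : Type u} [Group G]

/-- **The hypotheses of THEOREM S'' without `sw`.** -/
structure CoreR {ι : Type*} (O D ZJ : Subgroup G) (Y N : ι → Subgroup G) : Prop where
  two : IsPGroup 2 O
  OY : ∀ i, O ≤ Y i
  OZ : O ≤ centralizer (ZJ : Set G)
  DY : ∀ i, D ≤ Y i
  /-- at least three light pairs -/
  three : ∀ i j : ι, ∃ l, l ≠ i ∧ l ≠ j
  ne : Nonempty ι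
  /-- `E_I` is elementary abelian and `≤ O` for proper `I` -/
  eab : ∀ I : Set ι, I ≠ Set.univ → IsElementaryAbelian 2 (EI ZJ Y I : Subgroup G) ∧ EI ZJ Y I ≤ O
  NE : ∀ i, N i ≤ EI ZJ Y {i}
  YN : ∀ i, Y i ≤ normalizer (N i : Set G)
  YQ : ∀ i, Y i ≤ normalizer ((O ⊓ centralizer (N i : Set G) : Subgroup G) : Set G)
  no : ∀ i, NoOn O (N i)
  /-- QP (LEMMA G'': some subgroup of `K ⊓ O` moves `N j`) -/
  gen : ∀ j, ∀ K : Subgroup G, K ≤ Y j → Y j ≤ normalizer (K : Set G) → ¬ K ⊓ O ≤ centralizer (N j : Set G) →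
    Y j ≤ K ⊔ D
  tr : ∀ i j, ∃ g, ∃ σ : Equiv.Perm ι, Sy O Y N g σ ∧ σ i = j

section core

variable [Finite G] {ι : Type*} {O D ZJ : Subgroup G} {Y N : ι → Subgroup G} (h : CoreR O D ZJ Y N)
include h

theorem CoreR.N_le_EI {I : Set ι} {i : ι} (hi : i ∈ I) : N i ≤ EI ZJ Y I :=
  (h.NE i).trans (EI_mono (Set.singleton_subset_iff.2 hi))

theorem CoreR.ne_univ (i : ι) : ({i} : Set ι) ≠ Set.univ := by
  obtain ⟨l, hl, -⟩ := h.three i i
  intro e
  have : l ∈ ({i} : Set ι) := e ▸ Set.mem_univ l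
  exact hl this

theorem CoreR.N_eab (i : ι) : IsElementaryAbelian 2 (N i : Subgroup G) :=
  eab_mono (h.eab _ (h.ne_univ i)).1 (h.NE i)

theorem CoreR.N_le_O (i : ι) : N i ≤ O := (h.NE i).trans (h.eab _ (h.ne_univ i)).2

/-- (1) either the conclusion, or `J(O)` moves every `N j` -/
theorem CoreR.moves (hO : O ≠ ⊥) :
    (∃ R : Subgroup G, R ≠ ⊥ ∧ IsPGroup 2 R ∧ ∀ j, Y j ≤ normalizer (R : Set G)) ∨
      ∀ j, ∃ A ∈ AA O, ¬ A ≤ centralizer (N j : Set G) := by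
  by_cases hc : ∀ j, ∃ A ∈ AA O, ¬ A ≤ centralizer (N j : Set G)
  · exact Or.inr hc
  left
  push Not at hc
  obtain ⟨j, hj⟩ := hc
  have e : jj O = jj (O ⊓ centralizer (N j : Set G)) := by
    refine le_antisymm ?_ (jj_inf_le (h.N_eab j) (h.N_le_O j) (h.no j))
    rw [ChoiceBase.jj_eq O]
    exact sSup_le fun A hA => ChoiceBase.le_jj (mem_inf_of_mem_AA (h.N_eab j) (h.N_le_O j) (h.no j) hA (hj A hA))
  have h1 : Y j ≤ normalizer (jj O : Set G) := by
    rw [e]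
    exact (h.YQ j).trans (jj_norm _)
  refine ⟨jj O, jj_ne_bot h.two hO, h.two.to_le (ChoiceBase.jj_le O), fun i => ?_⟩
  obtain ⟨g, σ, hg, hσ⟩ := h.tr j i
  have h2 := cj_mono g h1
  rwa [hg.Y_eq, hσ, cj_normalizer, ← jj_cj, hg.O_eq] at h2

/-- (2), (3): for every proper nonempty `I` some `j ∈ I` has `Y j ≤ N(N i N j)` for all `i ∈ I`. -/
theorem CoreR.step (hm : ∀ j, ∃ A ∈ AA O, ¬ A ≤ centralizer (N j : Set G)) {I : Set ι} (hI : I ≠ Set.univ)
    (hne : I.Nonempty) : ∃ j ∈ I, ∀ i ∈ I, Y j ≤ normalizer ((N i ⊔ N j : Subgroup G) : Set G) := by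
  obtain ⟨j0, hj0⟩ := hne
  obtain ⟨A, hA, hAm⟩ := hm j0
  obtain ⟨hE, hEO⟩ := h.eab I hI
  have hOE : O ≤ normalizer (EI ZJ Y I : Set G) := (h.OY j0).trans (EI_norm hj0)
  have hoff : Offd (EI ZJ Y I) A :=
    offd_of_mem hE hEO hA (hA.2.1.trans hOE) (h.N_le_EI hj0) hAm
  have hdt : Dt O (EI ZJ Y I) ZJ (fun i : I => Y i) (fun i : I => N i) := by
    refine ⟨(eab_iff.1 hE).1, fun i => h.OY i, fun i => EI_norm i.2, h.OZ, le_rfl, fun i => h.N_le_EI i.2,
      fun i => h.YN i, fun i => h.YQ i, fun i F hF hFO => h.no i F hF hFO⟩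
  obtain ⟨j, F, hFO, hFe, hFm, hF⟩ := hdt.lever hA.2.1 hA.1 hoff
  refine ⟨j, j.2, fun i hi => ?_⟩
  let K : Subgroup G := ⨆ y : Y j, cj (y : G) F
  have hFY : F ≤ Y j := hFO.trans (h.OY j)
  have hFK : F ≤ K := by
    have := le_iSup (fun y : Y j => cj (y : G) F) 1
    simpa only [OneMemClass.coe_one, cj_one] using this
  have hKY : K ≤ Y j := iSup_le fun y => by
    have := cj_mono (y : G) hFY
    rwa [cj_eq_of_mem_normalizer (Subgroup.le_normalizer y.2)] at this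
  have hYK : Y j ≤ normalizer (K : Set G) := by
    intro y hy
    refine mem_norm_of_le ?_
    change cj y (⨆ x : Y j, cj (x : G) F) ≤ _
    rw [cj, Subgroup.map_iSup]
    refine iSup_le fun x => ?_
    have e : Subgroup.map (MulAut.conj y).toMonoidHom (cj (x : G) F) = cj (y * x : G) F := cj_cj y x F
    rw [e]
    exact le_iSup (fun x : Y j => cj (x : G) F) ⟨y * x, mul_mem hy x.2⟩
  have hKm : ¬ K ⊓ O ≤ centralizer (N j : Set G) := fun hc => hFm ((le_inf hFK hFO).trans hc)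
  have hKN : K ≤ normalizer ((N i ⊔ N j : Subgroup G) : Set G) := by
    refine iSup_le fun y => ?_
    intro x hx
    refine mem_norm_of_le ?_
    rw [cj, Subgroup.map_sup]
    have hxY : x ∈ Y j := hKY (le_iSup (fun y : Y j => cj (y : G) F) y hx)
    refine sup_le ?_ ?_
    · rintro _ ⟨n, hn, rfl⟩
      change x * n * x⁻¹ ∈ _
      obtain ⟨f, hf, e⟩ := hx
      have e' : x = (y : G) * f * (y : G)⁻¹ := by rw [← e]; rfl
      have hnE : n ∈ EI ZJ Y I := h.N_le_EI hi hn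
      have hn' : (y : G)⁻¹ * n * y ∈ EI ZJ Y I := by
        have := (mem_normalizer_iff.1 (EI_norm j.2 (inv_mem y.2)) n).1 hnE
        rwa [inv_inv] at this
      have h1 := hF _ hn' f hf
      have h2 : (y : G) * ⁅(y : G)⁻¹ * n * y, f⁆ * (y : G)⁻¹ ∈ N j :=
        (mem_normalizer_iff.1 (h.YN j y.2) _).1 h1
      have h3 : ⁅n, x⁆ = (y : G) * ⁅(y : G)⁻¹ * n * y, f⁆ * (y : G)⁻¹ := by
        rw [e']
        simp only [commutatorElement_def]
        group
      have h4 : x * n * x⁻¹ = ⁅n, x⁆⁻¹ * n := by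
        simp only [commutatorElement_def]
        group
      rw [h4]
      exact mul_mem (inv_mem (mem_sup_right (by rw [h3]; exact h2))) (mem_sup_left hn)
    · have h1 := cj_eq_of_mem_normalizer (h.YN j hxY)
      exact (le_of_eq h1).trans le_sup_right
  have hDN : D ≤ normalizer ((N i ⊔ N j : Subgroup G) : Set G) := by
    intro x hx
    refine mem_norm_of_le ?_
    rw [cj, Subgroup.map_sup]
    exact sup_le_sup (cj_eq_of_mem_normalizer (h.YN i (h.DY i hx))).le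
      (cj_eq_of_mem_normalizer (h.YN j (h.DY j hx))).le
  exact (h.gen j K hKY hYK hKm).trans (sup_le hKN hDN)

/-- `j → i` : `Y j ≤ N(N i N j)` -/
def Rl (Y N : ι → Subgroup G) (j i : ι) : Prop := Y j ≤ normalizer ((N i ⊔ N j : Subgroup G) : Set G)

omit h [Finite G] in
theorem rl_iff {g : G} {σ : Equiv.Perm ι} (hg : Sy O Y N g σ) {j i : ι} :
    Rl Y N (σ j) (σ i) ↔ Rl Y N j i := by
  constructor
  · intro hr
    have h1 := hg.inv.conj_rel (i := σ i) (j := σ j) hr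
    rwa [CoreS.inv_l σ i, CoreS.inv_l σ j] at h1
  · intro hr
    exact hg.conj_rel hr

/-- every `j` misses at most one point -/
theorem CoreR.miss (hm : ∀ j, ∃ A ∈ AA O, ¬ A ≤ centralizer (N j : Set G)) :
    ∀ j a b, ¬ Rl Y N j a → ¬ Rl Y N j b → a = b := by
  obtain ⟨l⟩ := h.ne
  obtain ⟨l', hl', -⟩ := h.three l l
  obtain ⟨j₀, -, hj⟩ := h.step hm (I := {l}ᶜ) (fun e => by
    have : l ∈ ({l}ᶜ : Set ι) := e ▸ Set.mem_univ l
    exact this rfl) ⟨l', hl'⟩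
  have h0 : ∀ a, ¬ Rl Y N j₀ a → a = l := fun a ha => by
    by_contra hal
    exact ha (hj a hal)
  intro j a b ha hb
  obtain ⟨g, σ, hg, hσ⟩ := h.tr j j₀
  have h1 : ∀ c, ¬ Rl Y N j c → σ c = l := fun c hc => h0 _ fun hr => hc (by
    rw [← hσ] at hr
    exact (rl_iff hg).1 hr)
  exact σ.injective ((h1 a ha).trans (h1 b hb).symm)

/-- the end: one `j → i` for all `i` -/
theorem CoreR.local_of_all (hm : ∀ j, ∃ A ∈ AA O, ¬ A ≤ centralizer (N j : Set G)) {j : ι}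
    (hall : ∀ i, Rl Y N j i) :
    ∃ R : Subgroup G, R ≠ ⊥ ∧ IsPGroup 2 R ∧ ∀ j, Y j ≤ normalizer (R : Set G) := by
  have hall' : ∀ i k, Y k ≤ normalizer ((N i ⊔ N k : Subgroup G) : Set G) := by
    intro i k
    obtain ⟨g, σ, hg, hσ⟩ := h.tr j k
    have h1 := hg.conj_rel (hall (σ⁻¹ i))
    rwa [inv_r σ i, hσ] at h1
  refine ⟨⨆ i, N i, ?_, h.two.to_le (iSup_le h.N_le_O), fun k => ?_⟩
  · obtain ⟨A, -, hA⟩ := hm j
    intro e
    apply hA
    have h1 : N j = ⊥ := eq_bot_iff.2 ((le_iSup N j).trans e.le)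
    rw [h1]
    intro x _
    rw [mem_centralizer_iff]
    intro y hy
    rw [SetLike.mem_coe, mem_bot] at hy
    rw [hy, one_mul, mul_one]
  · intro x hx
    refine mem_norm_of_le ?_
    rw [cj, Subgroup.map_iSup]
    refine iSup_le fun i => ?_
    have h1 : cj x (N i) ≤ N i ⊔ N k := by
      refine (cj_mono x (le_sup_left (b := N k))).trans ?_
      exact (cj_eq_of_mem_normalizer (hall' i k hx)).le
    exact h1.trans (sup_le (le_iSup N i) (le_iSup N k))

/-- **one symmetry which fixes a pair and moves another one is enough.** -/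
theorem CoreR.local_of_fix (hO : O ≠ ⊥)
    (sw : ∃ g, ∃ σ : Equiv.Perm ι, Sy O Y N g σ ∧ ∃ i₀ j₀, σ i₀ = i₀ ∧ σ j₀ ≠ j₀) :
    ∃ R : Subgroup G, R ≠ ⊥ ∧ IsPGroup 2 R ∧ ∀ j, Y j ≤ normalizer (R : Set G) := by
  rcases h.moves hO with h1 | hm
  · exact h1
  obtain ⟨g, σ, hg, i₀, j₀, hi, hj⟩ := sw
  obtain ⟨j, hjI, hj'⟩ := h.step hm (I := {l | σ l = l}) (fun e => by
    have : j₀ ∈ {l | σ l = l} := e ▸ Set.mem_univ j₀
    exact hj this) ⟨i₀, hi⟩
  refine h.local_of_all hm (j := j) fun i => ?_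
  by_contra hc
  have h2 : ¬ Rl Y N j (σ i) := fun hr => hc (by
    have e : σ j = j := hjI
    rw [← e] at hr
    exact (rl_iff hg).1 hr)
  have h3 : σ i = i := h.miss hm j _ _ h2 hc
  exact hc (hj' i h3)

/-- **or the permutation `τ`.** -/
theorem CoreR.local_or_cyc [Finite ι] (hO : O ≠ ⊥) :
    (∃ R : Subgroup G, R ≠ ⊥ ∧ IsPGroup 2 R ∧ ∀ j, Y j ≤ normalizer (R : Set G)) ∨
      ∃ τ : Equiv.Perm ι, (∀ (g : G) (σ : Equiv.Perm ι), Sy O Y N g σ → ∀ j, σ (τ j) = τ (σ j)) ∧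
        ∀ I : Set ι, I.Nonempty → (∀ j ∈ I, τ j ∈ I) → I = Set.univ := by
  rcases h.moves hO with h1 | hm
  · exact Or.inl h1
  by_cases hc : ∃ j, ∀ i, Rl Y N j i
  · obtain ⟨j, hj⟩ := hc
    exact Or.inl (h.local_of_all hm hj)
  right
  push Not at hc
  choose τ hτ using hc
  have huni : ∀ j a, ¬ Rl Y N j a → a = τ j := fun j a ha => h.miss hm j _ _ ha (hτ j)
  have hcl : ∀ I : Set ι, I.Nonempty → (∀ j ∈ I, τ j ∈ I) → I = Set.univ := by
    intro I hne hI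
    by_contra hu
    obtain ⟨j, hj, hj'⟩ := h.step hm hu hne
    exact hτ j (hj' _ (hI j hj))
  have hsur : Function.Surjective τ := by
    obtain ⟨l⟩ := h.ne
    have h1 := hcl (Set.range τ) ⟨τ l, l, rfl⟩ (fun j _ => ⟨j, rfl⟩)
    exact Set.range_eq_univ.1 h1
  have hbij : Function.Bijective τ := (Finite.surjective_iff_bijective).1 hsur
  refine ⟨Equiv.ofBijective τ hbij, fun g σ hg j => ?_, hcl⟩
  exact huni _ _ fun hr => hτ j ((rl_iff hg).1 hr)

omit h [Finite G] in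
/-- permutations which commute with a transitive permutation: they are its powers -/
theorem eq_pow {τ σ : Equiv.Perm ι} (hc : ∀ j, σ (τ j) = τ (σ j))
    (ht : ∀ I : Set ι, I.Nonempty → (∀ j ∈ I, τ j ∈ I) → I = Set.univ) (i : ι) :
    ∃ k : ℕ, ∀ j, σ j = (τ ^ k) j := by
  have hall : ∀ j, ∃ m : ℕ, (τ ^ m) i = j := by
    intro j
    have h1 := ht {j | ∃ m : ℕ, (τ ^ m) i = j} ⟨i, 0, rfl⟩ (fun j ⟨m, hm⟩ => ⟨m + 1, by
      rw [pow_succ', Equiv.Perm.mul_apply, hm]⟩)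
    have h2 : j ∈ {j | ∃ m : ℕ, (τ ^ m) i = j} := by rw [h1]; trivial
    exact h2
  have hcp : ∀ (m : ℕ) j, σ ((τ ^ m) j) = (τ ^ m) (σ j) := by
    intro m
    induction m with
    | zero => intro j; rfl
    | succ m ih =>
      intro j
      rw [pow_succ', Equiv.Perm.mul_apply, hc, ih, Equiv.Perm.mul_apply]
  obtain ⟨k, hk⟩ := hall (σ i)
  refine ⟨k, fun j => ?_⟩
  obtain ⟨m, rfl⟩ := hall j
  rw [hcp, ← hk, ← Equiv.Perm.mul_apply, ← Equiv.Perm.mul_apply, ← pow_add, ← pow_add, add_comm]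

/-- **or the symmetries commute and act semiregularly.** -/
theorem CoreR.local_or_comm [Finite ι] (hO : O ≠ ⊥) :
    (∃ R : Subgroup G, R ≠ ⊥ ∧ IsPGroup 2 R ∧ ∀ j, Y j ≤ normalizer (R : Set G)) ∨
      (∀ (g g' : G) (σ σ' : Equiv.Perm ι), Sy O Y N g σ → Sy O Y N g' σ' → σ * σ' = σ' * σ) ∧
        ∀ (g : G) (σ : Equiv.Perm ι), Sy O Y N g σ → ∀ i, σ i = i → σ = 1 := by
  rcases h.local_or_cyc hO with h1 | ⟨τ, hτ, ht⟩
  · exact Or.inl h1
  right
  obtain ⟨i₀⟩ := h.ne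
  refine ⟨fun g g' σ σ' hg hg' => ?_, fun g σ hg i hi => ?_⟩
  · obtain ⟨k, hk⟩ := eq_pow (hτ g σ hg) ht i₀
    obtain ⟨k', hk'⟩ := eq_pow (hτ g' σ' hg') ht i₀
    have e : σ = τ ^ k := Equiv.ext hk
    have e' : σ' = τ ^ k' := Equiv.ext hk'
    rw [e, e', ← pow_add, ← pow_add, add_comm]
  · have h1 := ht {j | σ j = j} ⟨i, hi⟩ (fun j (hj : σ j = j) => by
      show σ (τ j) = τ j
      rw [hτ g σ hg, hj])
    refine Equiv.ext fun j => ?_
    have h2 : j ∈ {j | σ j = j} := by rw [h1]; trivial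
    exact h2

end core

end Cfsg.Agent.Omega.ESym.CoreR
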