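import Cfsg.Agent.Omega.ESym.CoreS

/-!
# THEOREM S''T: THEOREM S'' without the hypothesis `sw`

* `Cr` : the hypotheses of `Core` without `sw`;
* **`Cr.local_or`** : some nontrivial 2-group is normalised by all the `Y j`, or some permutation `τ` of the indices, one
  cycle, commutes with all symmetries;
* `eq_of_fix`, `comm_of` : then a symmetry with a fixed point is trivial, and all symmetries commute.
-/

set_option autoImplicit false
set_option linter.unusedSectionVars false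

namespace Cfsg.Agent.Omega.ESym.CoreT

open Subgroup Cfsg Cfsg.Agent.ZN Cfsg.Agent.ZN.ChoiceBase
open Cfsg.Agent.Omega.NO3S.EThree
open Cfsg.Agent.Omega.NO3S.EThree.ExactA (eab_mono eab_sup eab_iff)
open Cfsg.Agent.Omega.EK3.Rank (NoOn mem_inf_of_mem_AA jj_inf_le offd_of_mem)
open Cfsg.Agent.Omega.EK3.Lever (Dt)
open Cfsg.Agent.Omega.ESym.CoreS
open scoped commutatorElement

universe u

variable {G : Type u} [Group G]

/-- **The hypotheses of THEOREM S''T.** -/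
structure Cr {ι : Type*} (O D ZJ : Subgroup G) (Y N : ι → Subgroup G) : Prop where
  two : IsPGroup 2 O
  OY : ∀ i, O ≤ Y i
  OZ : O ≤ centralizer (ZJ : Set G)
  DY : ∀ i, D ≤ Y i
  /-- at least three light pairs -/
  three : ∀ i j : ι, ∃ l, l ≠ i ∧ l ≠ j
  ne : Nonempty ι
  eab : ∀ I : Set ι, I ≠ Set.univ → IsElementaryAbelian 2 (EI ZJ Y I : Subgroup G) ∧ EI ZJ Y I ≤ O
  NE : ∀ i, N i ≤ EI ZJ Y {i}
  YN : ∀ i, Y i ≤ normalizer (N i : Set G)
  YQ : ∀ i, Y i ≤ normalizer ((O ⊓ centralizer (N i : Set G) : Subgroup G) : Set G)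
  no : ∀ i, NoOn O (N i)
  gen : ∀ j, ∀ K : Subgroup G, K ≤ Y j → Y j ≤ normalizer (K : Set G) → ¬ K ⊓ O ≤ centralizer (N j : Set G) →
    Y j ≤ K ⊔ D
  tr : ∀ i j, ∃ g, ∃ σ : Equiv.Perm ι, Sy O Y N g σ ∧ σ i = j

section core

variable [Finite G] {ι : Type*} {O D ZJ : Subgroup G} {Y N : ι → Subgroup G} (h : Cr O D ZJ Y N)
include h

theorem Cr.N_le_EI {I : Set ι} {i : ι} (hi : i ∈ I) : N i ≤ EI ZJ Y I :=
  (h.NE i).trans (EI_mono (Set.singleton_subset_iff.2 hi))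

theorem Cr.ne_univ (i : ι) : ({i} : Set ι) ≠ Set.univ := by
  obtain ⟨l, hl, -⟩ := h.three i i
  intro e
  have : l ∈ ({i} : Set ι) := e ▸ Set.mem_univ l
  exact hl this

theorem Cr.N_eab (i : ι) : IsElementaryAbelian 2 (N i : Subgroup G) :=
  eab_mono (h.eab _ (h.ne_univ i)).1 (h.NE i)

theorem Cr.N_le_O (i : ι) : N i ≤ O := (h.NE i).trans (h.eab _ (h.ne_univ i)).2

/-- (1) either the conclusion, or `J(O)` moves every `N j` -/
theorem Cr.moves (hO : O ≠ ⊥) :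
    (∃ R : Subgroup G, R ≠ ⊥ ∧ IsPGroup 2 R ∧ ∀ j, Y j ≤ normalizer (R : Set G)) ∨
      ∀ j, ∃ A ∈ AA O, ¬ A ≤ centralizer (N j : Set G) := by
  by_cases hc : ∀ j, ∃ A ∈ AA O, ¬ A ≤ centralizer (N j : Set G)
  · exact Or.inr hc
  left
  push Not at hc
  obtain ⟨j, hj⟩ := hc
  have e : jj O = jj (O ⊓ centralizer (N j : Set G)) := by
    refine le_antisymm ?_ (jj_inf_le (h.N_eab j) (h.N_le_O j) (h.no j))
    rw [ChoiceBase.jj_eq O]
    exact sSup_le fun A hA => ChoiceBase.le_jj (mem_inf_of_mem_AA (h.N_eab j) (h.N_le_O j) (h.no j) hA (hj A hA))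
  have h1 : Y j ≤ normalizer (jj O : Set G) := by
    rw [e]
    exact (h.YQ j).trans (jj_norm _)
  refine ⟨jj O, jj_ne_bot h.two hO, h.two.to_le (ChoiceBase.jj_le O), fun i => ?_⟩
  obtain ⟨g, σ, hg, hσ⟩ := h.tr j i
  have h2 := cj_mono g h1
  rwa [hg.Y_eq, hσ, cj_normalizer, ← jj_cj, hg.O_eq] at h2

/-- (2), (3): for every proper nonempty `I` some `j ∈ I` has `Y j ≤ N(N i N j)` for all `i ∈ I`. -/
theorem Cr.step (hm : ∀ j, ∃ A ∈ AA O, ¬ A ≤ centralizer (N j : Set G)) {I : Set ι} (hI : I ≠ Set.univ)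
    (hne : I.Nonempty) : ∃ j ∈ I, ∀ i ∈ I, Y j ≤ normalizer ((N i ⊔ N j : Subgroup G) : Set G) := by
  obtain ⟨j0, hj0⟩ := hne
  obtain ⟨A, hA, hAm⟩ := hm j0
  obtain ⟨hE, hEO⟩ := h.eab I hI
  have hOE : O ≤ normalizer (EI ZJ Y I : Set G) := (h.OY j0).trans (EI_norm hj0)
  have hoff : Offd (EI ZJ Y I) A :=
    offd_of_mem hE hEO hA (hA.2.1.trans hOE) (h.N_le_EI hj0) hAm
  have hdt : Dt O (EI ZJ Y I) ZJ (fun i : I => Y i) (fun i : I => N i) := by
    refine ⟨(eab_iff.1 hE).1, fun i => h.OY i, fun i => EI_norm i.2, h.OZ, le_rfl, fun i => h.N_le_EI i.2,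
      fun i => h.YN i, fun i => h.YQ i, fun i F hF hFO => h.no i F hF hFO⟩
  obtain ⟨j, F, hFO, hFe, hFm, hF⟩ := hdt.lever hA.2.1 hA.1 hoff
  refine ⟨j, j.2, fun i hi => ?_⟩
  -- the normal closure of `F` in `Y j`
  let K : Subgroup G := ⨆ y : Y j, cj (y : G) F
  have hFY : F ≤ Y j := hFO.trans (h.OY j)
  have hFK : F ≤ K := by
    have := le_iSup (fun y : Y j => cj (y : G) F) 1
    simpa only [OneMemClass.coe_one, cj_one] using this
  have hKY : K ≤ Y j := iSup_le fun y => by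
    have := cj_mono (y : G) hFY
    rwa [cj_eq_of_mem_normalizer (Subgroup.le_normalizer y.2)] at this
  have hYK : Y j ≤ normalizer (K : Set G) := by
    intro y hy
    refine mem_norm_of_le ?_
    change cj y (⨆ x : Y j, cj (x : G) F) ≤ _
    rw [cj, Subgroup.map_iSup]
    refine iSup_le fun x => ?_
    have e : Subgroup.map (MulAut.conj y).toMonoidHom (cj (x : G) F) = cj (y * x : G) F := cj_cj y x F
    rw [e]
    exact le_iSup (fun x : Y j => cj (x : G) F) ⟨y * x, mul_mem hy x.2⟩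
  have hKm : ¬ K ⊓ O ≤ centralizer (N j : Set G) := fun hc => hFm ((le_inf hFK hFO).trans hc)
  have hKN : K ≤ normalizer ((N i ⊔ N j : Subgroup G) : Set G) := by
    refine iSup_le fun y => ?_
    intro x hx
    refine mem_norm_of_le ?_
    rw [cj, Subgroup.map_sup]
    have hxY : x ∈ Y j := hKY (le_iSup (fun y : Y j => cj (y : G) F) y hx)
    refine sup_le ?_ ?_
    · rintro _ ⟨n, hn, rfl⟩
      change x * n * x⁻¹ ∈ _
      -- `x = y f y⁻¹`
      obtain ⟨f, hf, e⟩ := hx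
      have e' : x = (y : G) * f * (y : G)⁻¹ := by rw [← e]; rfl
      have hnE : n ∈ EI ZJ Y I := h.N_le_EI hi hn
      have hn' : (y : G)⁻¹ * n * y ∈ EI ZJ Y I := by
        have := (mem_normalizer_iff.1 (EI_norm j.2 (inv_mem y.2)) n).1 hnE
        rwa [inv_inv] at this
      have h1 := hF _ hn' f hf
      have h2 : (y : G) * ⁅(y : G)⁻¹ * n * y, f⁆ * (y : G)⁻¹ ∈ N j :=
        (mem_normalizer_iff.1 (h.YN j y.2) _).1 h1
      have h3 : ⁅n, x⁆ = (y : G) * ⁅(y : G)⁻¹ * n * y, f⁆ * (y : G)⁻¹ := by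
        rw [e']
        simp only [commutatorElement_def]
        group
      have h4 : x * n * x⁻¹ = ⁅n, x⁆⁻¹ * n := by
        simp only [commutatorElement_def]
        group
      rw [h4]
      exact mul_mem (inv_mem (mem_sup_right (by rw [h3]; exact h2))) (mem_sup_left hn)
    · have h1 := cj_eq_of_mem_normalizer (h.YN j hxY)
      exact (le_of_eq h1).trans le_sup_right
  have hDN : D ≤ normalizer ((N i ⊔ N j : Subgroup G) : Set G) := by
    intro x hx
    refine mem_norm_of_le ?_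
    rw [cj, Subgroup.map_sup]
    exact sup_le_sup (cj_eq_of_mem_normalizer (h.YN i (h.DY i hx))).le
      (cj_eq_of_mem_normalizer (h.YN j (h.DY j hx))).le
  exact (h.gen j K hKY hYK hKm).trans (sup_le hKN hDN)


/-- a subgroup normalised by all `Y j` if all pairs are related -/
theorem Cr.all (hm : ∀ j, ∃ A ∈ AA O, ¬ A ≤ centralizer (N j : Set G))
    (hall : ∀ i k, Y k ≤ normalizer ((N i ⊔ N k : Subgroup G) : Set G)) :
    ∃ R : Subgroup G, R ≠ ⊥ ∧ IsPGroup 2 R ∧ ∀ j, Y j ≤ normalizer (R : Set G) := by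
  obtain ⟨l⟩ := h.ne
  refine ⟨⨆ i, N i, ?_, h.two.to_le (iSup_le h.N_le_O), fun k => ?_⟩
  · obtain ⟨A, -, hA⟩ := hm l
    intro e
    apply hA
    have h1 : N l = ⊥ := eq_bot_iff.2 ((le_iSup N l).trans e.le)
    rw [h1]
    intro x _
    rw [mem_centralizer_iff]
    intro y hy
    rw [SetLike.mem_coe, mem_bot] at hy
    rw [hy, one_mul, mul_one]
  · intro x hx
    refine mem_norm_of_le ?_
    rw [cj, Subgroup.map_iSup]
    refine iSup_le fun i => ?_
    have h1 : cj x (N i) ≤ N i ⊔ N k := by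
      refine (cj_mono x (le_sup_left (b := N k))).trans ?_
      exact (cj_eq_of_mem_normalizer (hall i k hx)).le
    exact h1.trans (sup_le (le_iSup N i) (le_iSup N k))

/-- **THEOREM S''T.** -/
theorem Cr.local_or [Finite ι] (hO : O ≠ ⊥) :
    (∃ R : Subgroup G, R ≠ ⊥ ∧ IsPGroup 2 R ∧ ∀ j, Y j ≤ normalizer (R : Set G)) ∨
      ∃ τ : Equiv.Perm ι, (∀ i j, ∃ n : ℕ, (τ ^ n) i = j) ∧
        ∀ g, ∀ σ : Equiv.Perm ι, Sy O Y N g σ → ∀ i, σ (τ i) = τ (σ i) := by
  rcases h.moves hO with h1 | hm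
  · exact Or.inl h1
  set R : ι → ι → Prop := fun j i => Y j ≤ normalizer ((N i ⊔ N j : Subgroup G) : Set G) with hRdef
  have hcj : ∀ {g : G} {σ : Equiv.Perm ι}, Sy O Y N g σ → ∀ {j i}, R j i → R (σ j) (σ i) := by
    intro g σ hg j i hr
    exact hg.conj_rel hr
  have hcj' : ∀ {g : G} {σ : Equiv.Perm ι}, Sy O Y N g σ → ∀ {j i}, R (σ j) (σ i) → R j i := by
    intro g σ hg j i hr
    have h1 := hcj hg.inv hr
    rwa [inv_l, inv_l] at h1
  have hstep : ∀ {I : Set ι}, I ≠ Set.univ → I.Nonempty → ∃ j ∈ I, ∀ i ∈ I, R j i := fun hI hne => h.step hm hI hne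
  by_cases hall : ∀ j i, R j i
  · exact Or.inl (h.all hm fun i k => hall k i)
  right
  push Not at hall
  obtain ⟨j₀, i₀, h0⟩ := hall
  -- every point misses some point
  have f1 : ∀ j, ∃ i, ¬ R j i := by
    intro j
    obtain ⟨g, σ, hg, hσ⟩ := h.tr j₀ j
    refine ⟨σ i₀, fun hr => h0 ?_⟩
    rw [← hσ] at hr
    exact hcj' hg hr
  -- every point is missed by some point which misses nothing else
  have f2 : ∀ l, ∃ j, ∀ i, i ≠ l → R j i := by
    intro l
    obtain ⟨l', hl', -⟩ := h.three l l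
    obtain ⟨j, -, hj⟩ := hstep (I := {l}ᶜ) (fun e => by
      have : l ∈ ({l}ᶜ : Set ι) := e ▸ Set.mem_univ l
      exact this rfl) ⟨l', hl'⟩
    exact ⟨j, fun i hi => hj i hi⟩
  -- uniqueness
  have f3 : ∀ j i i', ¬ R j i → ¬ R j i' → i = i' := by
    intro j i i' hi hi'
    obtain ⟨l⟩ := h.ne
    obtain ⟨j', hj'⟩ := f2 l
    obtain ⟨g, σ, hg, hσ⟩ := h.tr j' j
    have key : ∀ i, ¬ R j i → σ⁻¹ i = l := by
      intro i hi
      by_contra hne
      apply hi
      have h1 := hcj hg (hj' _ hne)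
      rwa [hσ, inv_r σ i] at h1
    have h2 := (key i hi).trans (key i' hi').symm
    exact (σ⁻¹).injective h2
  choose t ht using f1
  have hsurj : Function.Surjective t := by
    intro l
    obtain ⟨j, hj⟩ := f2 l
    refine ⟨j, ?_⟩
    by_contra hne
    exact ht j (hj _ hne)
  have hbij : Function.Bijective t := Finite.injective_iff_bijective.1 (Finite.injective_iff_surjective.2 hsurj)
  refine ⟨Equiv.ofBijective t hbij, fun i j => ?_, fun g σ hg i => ?_⟩
  · set τ : Equiv.Perm ι := Equiv.ofBijective t hbij with hτ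
    have hτt : ∀ i, τ i = t i := fun i => rfl
    by_contra hcon
    push Not at hcon
    obtain ⟨k, hk, hkr⟩ := hstep (I := {x | ∃ n : ℕ, (τ ^ n) i = x}) (fun e => by
      have : j ∈ {x | ∃ n : ℕ, (τ ^ n) i = x} := e ▸ Set.mem_univ j
      obtain ⟨n, hn⟩ := this
      exact hcon n hn) ⟨i, 0, rfl⟩
    obtain ⟨n, hn⟩ := hk
    refine ht k (hkr (t k) ⟨n + 1, ?_⟩)
    rw [pow_succ', Equiv.Perm.mul_apply, hn, hτt]
  · change σ (t i) = t (σ i)
    exact f3 (σ i) _ _ (fun hr => ht i (hcj' hg hr)) (ht (σ i))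

end core

section reg

variable {ι : Type*} {P : Equiv.Perm ι → Prop} {τ : Equiv.Perm ι}

/-- a permutation commuting with a transitive `τ` which has a fixed point is trivial -/
theorem eq_of_fix (hτ : ∀ i j, ∃ n : ℕ, (τ ^ n) i = j) {σ : Equiv.Perm ι} (hσ : ∀ i, σ (τ i) = τ (σ i)) {i : ι}
    (hi : σ i = i) (j : ι) : σ j = j := by
  obtain ⟨n, rfl⟩ := hτ i j
  induction n with
  | zero => exact hi
  | succ n ih => rw [pow_succ', Equiv.Perm.mul_apply, hσ, ih]

theorem comm_pow {σ : Equiv.Perm ι} (hσ : ∀ i, σ (τ i) = τ (σ i)) (n : ℕ) (i : ι) :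
    σ ((τ ^ n) i) = (τ ^ n) (σ i) := by
  induction n with
  | zero => rfl
  | succ n ih => rw [pow_succ', Equiv.Perm.mul_apply, hσ, ih, Equiv.Perm.mul_apply]

/-- the permutations commuting with a transitive `τ` commute -/
theorem comm_of (hτ : ∀ i j, ∃ n : ℕ, (τ ^ n) i = j) {σ σ' : Equiv.Perm ι} (hσ : ∀ i, σ (τ i) = τ (σ i))
    (hσ' : ∀ i, σ' (τ i) = τ (σ' i)) (i : ι) : σ (σ' i) = σ' (σ i) := by
  obtain ⟨a, ha⟩ := hτ i (σ i)
  obtain ⟨b, hb⟩ := hτ i (σ' i)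
  rw [← hb, comm_pow hσ, ← ha, comm_pow hσ', ← hb, ← Equiv.Perm.mul_apply, ← Equiv.Perm.mul_apply, ← pow_add,
    ← pow_add, add_comm]

end reg

end Cfsg.Agent.Omega.ESym.CoreT
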