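import Cfsg.Agent.Omega.OM.Line
import Cfsg.Agent.Omega.OM.Lev.Sym

/-!
# THEOREM S / S+ (symmetric blocks): the light pairs and their symmetries

`V` = the sum of `k` even-subset modules, `d i = u (J i) (X i) (Y i)` the light vectors (`i : ι`), a partition of the
points `≠ o` of every component into pairs.

* `Prs S H V o e J X Y` : this setting;
* `Prs.swap` : `J i = J j`: some `g ∈ H` induces the transposition `(i j)` on the `d l`;
* `Prs.brother` : every `l` has a brother `l' ≠ l`, `J l' = J l` (`5 ≤ n`);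
* `Prs.perm` : `S` permutes the `d l`; `Prs.trans` : `H ∩ {permuting the d l}` is transitive;
* `Prs.sw` : `j ≠ l`: some `g ∈ H` fixes `j` and moves `l`, or interchanges `j` and `l`;
* `prs_lev`, `prs_neg` : from the frames `SyL` (levels) and `SyT` (stage `-1`).
-/

set_option autoImplicit false
set_option linter.unusedSectionVars false

namespace Cfsg.Agent.Omega.ESym

open Subgroup Cfsg Cfsg.Agent.ZN.ChoiceBase
open Cfsg.Agent.Omega.FFThm (ActsSym SymK SymKM)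
open Cfsg.Agent.Omega.SQ1.FFSym

universe v

variable {G : Type v} [Group G] {k n : ℕ}

/-- The light pairs. -/
structure Prs (S H V : Subgroup G) (o : Fin n) (e : G → Fin k → Fin n → ZMod 2) {ι : Type}
    (J : ι → Fin k) (X Y : ι → Fin n) : Prop where
  sy : Sy H V ⊥ e
  SH : S ≤ H
  ne : ∀ i, X i ≠ Y i
  dis : ∀ i j, i ≠ j → J i = J j → X i ≠ X j ∧ X i ≠ Y j ∧ Y i ≠ X j ∧ Y i ≠ Y j
  cov : ∀ j x, x ≠ o → ∃ i, J i = j ∧ (X i = x ∨ Y i = x)
  conj : ∀ s ∈ S, ∀ σ τ, ActsSym e V s σ τ → ∀ i, ∃ l, J l = σ (J i) ∧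
    s * u H V ⊥ e (J i) (X i) (Y i) * s⁻¹ = u H V ⊥ e (J l) (X l) (Y l)
  tr : ∀ i j, ∃ t ∈ S, ∃ σ τ, ActsSym e V t σ τ ∧ σ i = j

namespace Prs

variable {S H V : Subgroup G} {o : Fin n} {e : G → Fin k → Fin n → ZMod 2} {ι : Type}
  {J : ι → Fin k} {X Y : ι → Fin n}

theorem inj (h : Prs S H V o e J X Y) {i j : ι}
    (he : u H V ⊥ e (J i) (X i) (Y i) = u H V ⊥ e (J j) (X j) (Y j)) : i = j := by
  by_contra hij
  obtain ⟨h1, h2⟩ := h.sy.u_inj (h.ne i) he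
  obtain ⟨h3, h4, -, -⟩ := h.dis i j hij h1
  rcases h2 with h2 | h2
  · exact h3 h2.1
  · exact h4 h2.1

/-- **the transposition `(i j)`** of two pairs of one component -/
theorem swap [DecidableEq ι] (h : Prs S H V o e J X Y) {i j : ι} (hij : i ≠ j) (hJ : J i = J j) :
    ∃ g ∈ H, ∀ l, g * u H V ⊥ e (J l) (X l) (Y l) * g⁻¹ =
      u H V ⊥ e (J (Equiv.swap i j l)) (X (Equiv.swap i j l)) (Y (Equiv.swap i j l)) := by
  obtain ⟨a1, a2, a3, a4⟩ := h.dis i j hij hJ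
  have hi := h.ne i
  have hj := h.ne j
  obtain ⟨g, hg⟩ := h.sy.exists_gd (Pi.mulSingle (J i) (Equiv.swap (X i) (X j) * Equiv.swap (Y i) (Y j)))
  refine ⟨g, hg.mem, fun l => ?_⟩
  rw [h.sy.u_conj hg.mem hg.act, Equiv.Perm.one_apply]
  by_cases hli : l = i
  · subst hli
    rw [Equiv.swap_apply_left, Pi.mulSingle_eq_same, ← hJ, Equiv.Perm.mul_apply, Equiv.Perm.mul_apply,
      Equiv.swap_apply_of_ne_of_ne hi a2, Equiv.swap_apply_left, Equiv.swap_apply_left,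
      Equiv.swap_apply_of_ne_of_ne a2.symm hj.symm]
  · by_cases hlj : l = j
    · subst hlj
      rw [Equiv.swap_apply_right, ← hJ, Pi.mulSingle_eq_same, Equiv.Perm.mul_apply, Equiv.Perm.mul_apply,
        Equiv.swap_apply_of_ne_of_ne a3.symm hj, Equiv.swap_apply_right, Equiv.swap_apply_right,
        Equiv.swap_apply_of_ne_of_ne hi.symm a3]
    · rw [Equiv.swap_apply_of_ne_of_ne hli hlj]
      by_cases hJl : J l = J i
      · obtain ⟨b1, b2, b3, b4⟩ := h.dis l i hli hJl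
        obtain ⟨c1, c2, c3, c4⟩ := h.dis l j hlj (hJl.trans hJ)
        rw [hJl, Pi.mulSingle_eq_same, Equiv.Perm.mul_apply, Equiv.Perm.mul_apply,
          Equiv.swap_apply_of_ne_of_ne b2 c2, Equiv.swap_apply_of_ne_of_ne b1 c1,
          Equiv.swap_apply_of_ne_of_ne b4 c4, Equiv.swap_apply_of_ne_of_ne b3 c3]
      · rw [Pi.mulSingle_eq_of_ne hJl, Equiv.Perm.one_apply, Equiv.Perm.one_apply]

/-- every pair has a brother in its component -/
theorem brother (h : Prs S H V o e J X Y) (hn : 4 ≤ n) (l : ι) : ∃ l', l' ≠ l ∧ J l' = J l := by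
  have h1 : ∃ x : Fin n, x ∉ ({o, X l, Y l} : Finset (Fin n)) := by
    by_contra hcon
    push Not at hcon
    have h2 : (Finset.univ : Finset (Fin n)) ⊆ {o, X l, Y l} := fun x _ => hcon x
    have h3 := Finset.card_le_card h2
    rw [Finset.card_univ, Fintype.card_fin] at h3
    have h4 := h3.trans (Finset.card_le_three (a := o) (b := X l) (c := Y l))
    omega
  obtain ⟨x, hx⟩ := h1
  simp only [Finset.mem_insert, Finset.mem_singleton, not_or] at hx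
  obtain ⟨l', hJ, hl'⟩ := h.cov (J l) x hx.1
  refine ⟨l', ?_, hJ⟩
  rintro rfl
  rcases hl' with h5 | h5
  · exact hx.2.1 h5.symm
  · exact hx.2.2 h5.symm

/-- `S` permutes the `d l` -/
theorem perm [Finite ι] (h : Prs S H V o e J X Y) {s : G} (hs : s ∈ S) {σ : Equiv.Perm (Fin k)}
    {τ : Fin k → Equiv.Perm (Fin n)} (hσ : ActsSym e V s σ τ) :
    ∃ ρ : Equiv.Perm ι, ∀ l, J (ρ l) = σ (J l) ∧ s * u H V ⊥ e (J l) (X l) (Y l) * s⁻¹ =
      u H V ⊥ e (J (ρ l)) (X (ρ l)) (Y (ρ l)) := by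
  choose f hf using h.conj s hs σ τ hσ
  have hinj : Function.Injective f := by
    intro i j hij
    apply h.inj
    have h1 := (hf i).2
    have h2 := (hf j).2
    rw [hij, ← h2] at h1
    have h3 := mul_right_cancel h1
    exact mul_left_cancel h3
  exact ⟨Equiv.ofBijective f (Finite.injective_iff_bijective.1 hinj), hf⟩

/-- **transitivity** on the `d l` -/
theorem trans [Finite ι] (h : Prs S H V o e J X Y) (i j : ι) :
    ∃ g ∈ H, ∃ ρ : Equiv.Perm ι, ρ i = j ∧ ∀ l, g * u H V ⊥ e (J l) (X l) (Y l) * g⁻¹ =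
      u H V ⊥ e (J (ρ l)) (X (ρ l)) (Y (ρ l)) := by
  classical
  obtain ⟨t, ht, σ, τ, hta, hσ⟩ := h.tr (J i) (J j)
  obtain ⟨ρ, hρ⟩ := h.perm ht hta
  by_cases hij : ρ i = j
  · exact ⟨t, h.SH ht, ρ, hij, fun l => (hρ l).2⟩
  · obtain ⟨g, hg, hgd⟩ := h.swap hij ((hρ i).1.trans hσ)
    refine ⟨g * t, mul_mem hg (h.SH ht), Equiv.swap (ρ i) j * ρ, ?_, fun l => ?_⟩
    · rw [Equiv.Perm.mul_apply, Equiv.swap_apply_left]
    · have e1 : g * t * u H V ⊥ e (J l) (X l) (Y l) * (g * t)⁻¹ =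
          g * (t * u H V ⊥ e (J l) (X l) (Y l) * t⁻¹) * g⁻¹ := by group
      rw [e1, (hρ l).2, hgd, Equiv.Perm.mul_apply]

/-- **(sw)** -/
theorem sw [Finite ι] (h : Prs S H V o e J X Y) (hn : 4 ≤ n) {j l : ι} (hjl : j ≠ l) :
    (∃ g ∈ H, ∃ ρ : Equiv.Perm ι, ρ j = j ∧ ρ l ≠ l ∧ ∀ a, g * u H V ⊥ e (J a) (X a) (Y a) * g⁻¹ =
      u H V ⊥ e (J (ρ a)) (X (ρ a)) (Y (ρ a))) ∨
    ∃ g ∈ H, ∃ ρ : Equiv.Perm ι, ρ j = l ∧ ρ l = j ∧ ∀ a, g * u H V ⊥ e (J a) (X a) (Y a) * g⁻¹ =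
      u H V ⊥ e (J (ρ a)) (X (ρ a)) (Y (ρ a)) := by
  classical
  by_cases hJ : J j = J l
  · obtain ⟨g, hg, hgd⟩ := h.swap hjl hJ
    exact Or.inr ⟨g, hg, Equiv.swap j l, Equiv.swap_apply_left _ _, Equiv.swap_apply_right _ _, hgd⟩
  · obtain ⟨l', hl', hJl⟩ := h.brother hn l
    obtain ⟨g, hg, hgd⟩ := h.swap hl'.symm hJl.symm
    refine Or.inl ⟨g, hg, Equiv.swap l l', ?_, ?_, hgd⟩
    · refine Equiv.swap_apply_of_ne_of_ne hjl ?_
      rintro rfl
      exact hJ hJl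
    · rw [Equiv.swap_apply_left]
      exact hl'

end Prs

/-! ### The instances -/

section inst

variable [Finite G] {T H Q V : Subgroup G} {o : Fin n} {e : G → Fin k → Fin n → ZMod 2} {ι : Type}
  {J : ι → Fin k} {X Y : ι → Fin n} {t r : ι → G}

/-- levels -/
theorem prs_lev {Jg : Subgroup G} {AA : Set (Subgroup G)} (h : OM.Lev.SymIn.SyL T H Q V Jg ⊥ AA o e)
    (c : OM.Lev.SymIn.SyL.Ch Jg H V ⊥ o e J X Y t r) : Prs T H V o e J X Y where
  sy := h.toSy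
  SH := h.TH
  ne := fun i => (c.tr i).1
  dis := fun _ _ hij hJ => c.cases h hij hJ
  cov := by
    intro j x hx
    obtain ⟨y, hy⟩ := h.cover Cfsg.Agent.Omega.SQ1.SymCyc.exists_pow j hx
    obtain ⟨i, hi, -, -, h1 | h1⟩ := c.exists_idx h hy
    · exact ⟨i, hi, Or.inl h1.1⟩
    · exact ⟨i, hi, Or.inr h1.2⟩
  conj := by
    intro s hs σ τ hσ i
    obtain ⟨l, h1, -, h3, -⟩ := c.exists_idx h ((c.tr i).conj h hs hσ)
    exact ⟨l, h1, by rw [h3, h.u_conj (h.TH hs) hσ]⟩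
  tr := h.trans

/-- stage `-1` -/
theorem prs_neg (h : SyT T H Q V ⊥ o e) (c : SyT.Ch T H V ⊥ o e J X Y t r) : Prs T H V o e J X Y where
  sy := h.toSy
  SH := h.TH
  ne := fun i => (c.tr i).1
  dis := fun _ _ hij hJ => c.cases h hij hJ
  cov := by
    intro j x hx
    obtain ⟨y, hy⟩ := h.cover Cfsg.Agent.Omega.SQ1.SymCyc.exists_pow j hx
    obtain ⟨i, hi, -, -, h1 | h1⟩ := c.exists_idx h hy
    · exact ⟨i, hi, Or.inl h1.1⟩
    · exact ⟨i, hi, Or.inr h1.2⟩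
  conj := by
    intro s hs σ τ hσ i
    obtain ⟨l, h1, -, h3, -⟩ := c.exists_idx h ((c.tr i).conj h hs hσ)
    exact ⟨l, h1, by rw [h3, h.u_conj (h.TH hs) hσ]⟩
  tr := h.trans

end inst

end Cfsg.Agent.Omega.ESym
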