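import Cfsg.Agent.Omega.EK3.Lever
import Cfsg.Agent.Omega.EK3.Rank
import Cfsg.Agent.Omega.EK3.Base
import Cfsg.Agent.Involutions.BaerSuzuki

/-!
# THEOREM S' (helper787, #23621): (E) with a 2-transitive `N_G(Z_J)`, abstract form

`ZJ = ⟨r_l : l ∈ ι⟩` elementary abelian, `D = C_G(ZJ)`, `B` Sylow in `D`, `O = O₂(D)`, `Y_j = C_G(r_l : l ≠ j)`,
`N_j = ⟨r_j^(Y_j)⟩`, `Q_j = O₂(Y_j)`.

* `Fr ZJ B r` : the frame (group `G` of characteristic 2 type, at least three indices);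
* `Fr.main` : if moreover (QP) `Y_j = K D` for `K` normal in `Y_j`, `K ≰ D`, (NO) for `O` on `N_j`, and the group which
  permutes the `r_l` is 2-transitive, then a nontrivial 2-group is normalised by all `Y_j`.
-/

set_option autoImplicit false
set_option linter.unusedSectionVars false

namespace Cfsg.Agent.Omega.ESym.Abs

open Subgroup Cfsg Cfsg.Agent.ZN.ChoiceBase
open Cfsg.Agent.ZN (zc zl o2 jj)
open Cfsg.Agent.Omega.EK3 (CT mem_CT CT_mono)
open Cfsg.Agent.Omega.EK3.Rank (NoOn)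
open Cfsg.Agent.Omega.NO3S.EThree
open scoped Pointwise commutatorElement

universe u

variable {G : Type u} [Group G] {ι : Type} {ZJ B : Subgroup G} {r : ι → G}

/-- `Y_j = C_G(r_l : l ≠ j)` -/
def Yj (r : ι → G) (j : ι) : Subgroup G := CT r ({j} : Set ι)ᶜ

/-- `N_j = ⟨r_j^(Y_j)⟩` -/
def Nj (r : ι → G) (j : ι) : Subgroup G := NoFF.Basic.V (zpowers (r j)) (Yj r j)

/-- The frame of THEOREM S'. -/
structure Fr (ZJ B : Subgroup G) (r : ι → G) : Prop where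
  hG : IsCharacteristicTwoType G
  gen : ZJ = closure (Set.range r)
  ab : ∀ i j, r i * r j = r j * r i
  sq : ∀ i, r i ^ 2 = 1
  ne : ∀ i, r i ≠ 1
  Bp : IsPGroup 2 B
  BD : B ≤ centralizer (ZJ : Set G)
  syl : ∀ R : Subgroup G, R ≤ centralizer (ZJ : Set G) → IsPGroup 2 R → B ≤ R → R ≤ B
  /-- an element of `N_G(B) ∩ O₂(C_G(r_l : l ≠ i, j))` centralises `r_i` (and `r_j`) -/
  perm : ∀ i j, ∀ t ∈ o2 (CT r ({i, j} : Set ι)ᶜ), t ∈ normalizer (B : Set G) → t * r i = r i * t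
  three : ∀ i j : ι, ∃ l, l ≠ i ∧ l ≠ j

theorem mem_Yj {x : G} {j : ι} : x ∈ Yj r j ↔ ∀ l, l ≠ j → x * r l = r l * x := by
  unfold Yj
  rw [mem_CT]
  simp only [Set.mem_compl_iff, Set.mem_singleton_iff]

theorem Y_norm_N (j : ι) : Yj r j ≤ normalizer (Nj r j : Set G) := by
  intro g hg
  have h1 := NoFF.Basic.conj_V_mul (Z := zpowers (r j)) (g := 1) hg
  rw [one_mul, map_one, one_smul] at h1
  rw [mem_normalizer_iff]
  intro x
  unfold Nj
  conv_lhs => rw [← Subgroup.smul_mem_pointwise_smul_iff (a := MulAut.conj g), h1]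
  rfl

theorem norm_V {Z Y : Subgroup G} : Y ≤ normalizer (NoFF.Basic.V Z Y : Set G) := by
  intro g hg
  have h1 := NoFF.Basic.conj_V_mul (Z := Z) (g := 1) hg
  rw [one_mul, map_one, one_smul] at h1
  rw [mem_normalizer_iff]
  intro x
  conv_lhs => rw [← Subgroup.smul_mem_pointwise_smul_iff (a := MulAut.conj g), h1]
  rfl

theorem le_V {Z Y : Subgroup G} : Z ≤ NoFF.Basic.V Z Y := by
  have := NoFF.Basic.Z_le_V (Z := Z) (one_mem Y)
  rwa [map_one, one_smul] at this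

theorem r_mem_N (j : ι) : r j ∈ Nj r j := le_V (mem_zpowers _)

theorem Y_le_CT {i j : ι} : Yj r i ≤ CT r ({i, j} : Set ι)ᶜ :=
  CT_mono (Set.compl_subset_compl.2 (Set.singleton_subset_iff.2 (Or.inl rfl)))

theorem Y_le_CT' {i j : ι} : Yj r j ≤ CT r ({i, j} : Set ι)ᶜ :=
  CT_mono (Set.compl_subset_compl.2 (Set.singleton_subset_iff.2 (Or.inr rfl)))

theorem mem_sup_of_norm {C T : Subgroup G} (h : T ≤ normalizer (C : Set G)) {x : G} (hx : x ∈ T ⊔ C) :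
    ∃ t ∈ T, ∃ c ∈ C, x = t * c := by
  rw [← SetLike.mem_coe, coe_mul_of_left_le_normalizer_right T C h] at hx
  obtain ⟨t, ht, c, hc, e⟩ := Set.mem_mul.1 hx
  exact ⟨t, ht, c, hc, e.symm⟩

namespace Fr

variable (h : Fr ZJ B r)
include h

theorem r_mem (i : ι) : r i ∈ ZJ := by
  rw [h.gen]
  exact subset_closure ⟨i, rfl⟩

theorem mem_cent {x : G} (hx : ∀ i, x * r i = r i * x) : x ∈ centralizer (ZJ : Set G) := by
  rw [h.gen, centralizer_closure, mem_centralizer_iff]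
  rintro _ ⟨i, rfl⟩
  exact (hx i).symm

theorem cent {x : G} (hx : x ∈ centralizer (ZJ : Set G)) (i : ι) : x * r i = r i * x :=
  (mem_centralizer_iff.1 hx _ (h.r_mem i)).symm

theorem D_le_CT (T : Set ι) : centralizer (ZJ : Set G) ≤ CT r T := by
  intro x hx
  rw [mem_CT]
  exact fun l _ => h.cent hx l

theorem D_le_Y (j : ι) : centralizer (ZJ : Set G) ≤ Yj r j := h.D_le_CT _

theorem Z_ab : ZJ ≤ centralizer (ZJ : Set G) := by
  conv_lhs => rw [h.gen]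
  rw [closure_le]
  rintro _ ⟨i, rfl⟩
  exact h.mem_cent fun j => h.ab i j

theorem Z_comm {x y : G} (hx : x ∈ ZJ) (hy : y ∈ ZJ) : x * y = y * x :=
  mem_centralizer_iff.1 (h.Z_ab hy) x hx

theorem Z_sq {x : G} (hx : x ∈ ZJ) : x ^ 2 = 1 := by
  rw [h.gen] at hx
  induction hx using closure_induction with
  | mem x hx => obtain ⟨i, rfl⟩ := hx; exact h.sq i
  | one => exact one_pow 2
  | mul x y hx hy hx2 hy2 =>
    rw [← h.gen] at hx hy
    have e : (x * y) ^ 2 = x ^ 2 * y ^ 2 := (show Commute x y from h.Z_comm hx hy).mul_pow 2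
    rw [e, hx2, hy2, one_mul]
  | inv x _ hx2 => rw [inv_pow, hx2, inv_one]

section finite

variable [Finite G]

/-- If every element of `O₂(X) ∩ N_G(B)` centralises `ZJ`, then `O₂(X) ≤ B` (`D ≤ X`). -/
theorem o2_le {X : Subgroup G} (hX : centralizer (ZJ : Set G) ≤ X)
    (hp : ∀ t ∈ o2 X, t ∈ normalizer (B : Set G) → t ∈ centralizer (ZJ : Set G)) : o2 X ≤ B := by
  have hB : B ≤ normalizer (o2 X : Set G) := (h.BD.trans hX).trans (MinSimple.VModule.le_normalizer_o2 _)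
  have h1 : IsPGroup 2 (B ⊔ o2 X : Subgroup G) :=
    IsPGroup.to_sup_of_normal_right' h.Bp (MinSimple.VModule.o2_isPGroup _) hB
  by_contra hcon
  -- `B < B O₂(X)`: an element of `O₂(X) ∩ N(B)` outside `B`
  obtain ⟨t, htX, htN, htB⟩ : ∃ t ∈ o2 X, t ∈ normalizer (B : Set G) ∧ t ∉ B := by
    have h2 : B < B ⊔ o2 X := lt_of_le_of_ne le_sup_left fun e => hcon (e ▸ le_sup_right)
    obtain ⟨y, hy, hyB, hyN⟩ := Involutions.BaerSuzuki.exists_mem_normalizer_of_lt h1 h2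
    obtain ⟨b, hb, t, ht, e⟩ := mem_sup_of_norm hB hy
    refine ⟨t, ht, ?_, fun htB => hyB (by rw [e]; exact mul_mem hb htB)⟩
    have e' : t = b⁻¹ * y := by rw [e]; group
    rw [e']
    exact mul_mem (inv_mem (le_normalizer hb)) hyN
  have h3 := hp t htX htN
  have h4 : IsPGroup 2 (B ⊔ zpowers t : Subgroup G) :=
    h1.to_le (sup_le le_sup_left ((zpowers_le.2 htX).trans le_sup_right))
  exact htB (h.syl _ (sup_le h.BD (zpowers_le.2 h3)) h4 le_sup_left (le_sup_right (a := B) (mem_zpowers t)))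

theorem o2_X_le (i j : ι) : o2 (CT r ({i, j} : Set ι)ᶜ) ≤ B := by
  refine h.o2_le (h.D_le_CT _) fun t ht hN => h.mem_cent fun l => ?_
  by_cases hl : l = i
  · rw [hl]; exact h.perm i j t ht hN
  by_cases hl' : l = j
  · rw [hl']
    have e : ({i, j} : Set ι) = {j, i} := Set.pair_comm i j
    rw [e] at ht
    exact h.perm j i t ht hN
  · have h1 : t ∈ CT r ({i, j} : Set ι)ᶜ := Cfsg.Agent.ZN.o2_le _ ht
    refine mem_CT.1 h1 l ?_
    simp [hl, hl']

theorem o2_Y_le (j : ι) : o2 (Yj r j) ≤ B := by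
  have e : ({j, j} : Set ι) = {j} := by simp
  have h1 := h.o2_X_le j j
  rw [e] at h1
  exact h1

/-- `CT r T` has characteristic 2 for `T ≠ ∅` -/
theorem char2_CT {T : Set ι} (hT : T.Nonempty) : CT r T ⊓ centralizer (o2 (CT r T) : Set G) ≤ o2 (CT r T) := by
  have e : CT r T = centralizer ((closure (r '' T) : Subgroup G) : Set G) := (centralizer_closure _).symm
  have hle : closure (r '' T) ≤ ZJ := by
    rw [closure_le]
    rintro _ ⟨l, -, rfl⟩
    exact h.r_mem l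
  rw [e]
  refine NOne.LemmaT.char2_centralizer h.hG (fun x => ⟨1, ?_⟩) ?_
  · have h2 := h.Z_sq (hle x.2)
    exact Subtype.ext (by simpa using h2)
  · obtain ⟨l, hl⟩ := hT
    intro e1
    have h1 : r l ∈ closure (r '' T) := subset_closure ⟨l, hl, rfl⟩
    rw [e1, mem_bot] at h1
    exact h.ne l h1

theorem nonempty (i j : ι) : (({i, j} : Set ι)ᶜ).Nonempty := by
  obtain ⟨l, h1, h2⟩ := h.three i j
  exact ⟨l, by simp [h1, h2]⟩

theorem Z_le_zc (i j : ι) : ZJ ≤ zc (o2 (CT r ({i, j} : Set ι)ᶜ)) := by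
  have h1 : ZJ ≤ centralizer (o2 (CT r ({i, j} : Set ι)ᶜ) : Set G) :=
    le_centralizer_iff.1 ((h.o2_X_le i j).trans h.BD)
  intro x hx
  exact mem_zc.2 ⟨h.char2_CT (h.nonempty i j) ⟨h.D_le_CT _ (h.Z_ab hx), h1 hx⟩, h.Z_sq hx, fun y hy =>
    mem_centralizer_iff.1 (h1 hx) y hy⟩

omit h in
/-- the conjugates of `Z ≤ Ω₁Z(Q)` under `Y ≤ N(Q)` are in `Ω₁Z(Q)` -/
theorem V_le_zc {Z Y Q : Subgroup G} (hZ : Z ≤ zc Q) (hY : Y ≤ normalizer (Q : Set G)) : NoFF.Basic.V Z Y ≤ zc Q := by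
  refine NoFF.Basic.V_le fun p hp x hx => ?_
  rw [NoFF.Basic.mem_conj] at hx
  have h1 := hZ hx
  rw [mem_zc] at h1 ⊢
  obtain ⟨h2, h3, h4⟩ := h1
  have e : x = p * (p⁻¹ * x * p) * p⁻¹ := by group
  refine ⟨?_, ?_, fun y hy => ?_⟩
  · rw [e]
    exact (mem_normalizer_iff.1 (hY hp) _).1 h2
  · rw [e, conj_pow, h3, mul_one, mul_inv_cancel]
  · have h5 : p⁻¹ * y * p ∈ Q := by
      have := (mem_normalizer_iff.1 (hY (inv_mem hp)) y).1 hy
      rwa [inv_inv] at this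
    have h6 := h4 _ h5
    calc y * x = p * ((p⁻¹ * y * p) * (p⁻¹ * x * p)) * p⁻¹ := by group
      _ = p * ((p⁻¹ * x * p) * (p⁻¹ * y * p)) * p⁻¹ := by rw [h6]
      _ = x * y := by group

/-- `E = ⟨ZJ^⟨Y_i, Y_j⟩⟩ ≤ Ω₁Z(O₂(X))` -/
theorem E_le_zc {i j : ι} {Y : Subgroup G} (hY : Y ≤ CT r ({i, j} : Set ι)ᶜ) :
    NoFF.Basic.V ZJ Y ≤ zc (o2 (CT r ({i, j} : Set ι)ᶜ)) :=
  V_le_zc (h.Z_le_zc i j) (hY.trans (MinSimple.VModule.le_normalizer_o2 _))

theorem E_le_o2 {i j : ι} {Y : Subgroup G} (hY : Y ≤ CT r ({i, j} : Set ι)ᶜ) :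
    NoFF.Basic.V ZJ Y ≤ o2 (CT r ({i, j} : Set ι)ᶜ) := fun _ hx => (mem_zc.1 (h.E_le_zc hY hx)).1

theorem o2_X_le_O (i j : ι) : o2 (CT r ({i, j} : Set ι)ᶜ) ≤ o2 (centralizer (ZJ : Set G)) :=
  MinSimple.Basic.o2_normal_le_o2 ((h.o2_X_le i j).trans h.BD) (h.D_le_CT _)

theorem E_el {i j : ι} {Y : Subgroup G} (hY : Y ≤ CT r ({i, j} : Set ι)ᶜ) :
    IsElementaryAbelian 2 (NoFF.Basic.V ZJ Y : Subgroup G) := by
  refine ⟨⟨⟨fun x y => Subtype.ext ?_⟩⟩, fun x hx => (mem_zc.1 (h.E_le_zc hY hx)).2.1⟩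
  exact ((mem_zc.1 (h.E_le_zc hY x.2)).2.2 y (h.E_le_o2 hY y.2)).symm

theorem N_le_E {i : ι} {Y : Subgroup G} (hY : Yj r i ≤ Y) : Nj r i ≤ NoFF.Basic.V ZJ Y := by
  refine NoFF.Basic.V_le fun p hp => ?_
  refine (NoFF.Basic.conj_le_iff.2 (zpowers_le.2 (h.r_mem i))).trans (NoFF.Basic.Z_le_V (hY hp))

theorem N_le_O (i : ι) : Nj r i ≤ o2 (centralizer (ZJ : Set G)) :=
  (h.N_le_E (Y_le_CT (j := i))).trans ((h.E_le_o2 le_rfl).trans (h.o2_X_le_O i i))

theorem N_el (i : ι) : IsElementaryAbelian 2 (Nj r i : Subgroup G) :=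
  ExactA.eab_mono (h.E_el (i := i) (j := i) le_rfl) (h.N_le_E (Y_le_CT (j := i)))

theorem o2_Y_le_O (j : ι) : o2 (Yj r j) ≤ o2 (centralizer (ZJ : Set G)) :=
  MinSimple.Basic.o2_normal_le_o2 ((h.o2_Y_le j).trans h.BD) (h.D_le_Y j)

theorem Z_le_zcY (j : ι) : ZJ ≤ zc (o2 (Yj r j)) := by
  have e : ({j, j} : Set ι) = {j} := by simp
  have h1 := h.Z_le_zc j j
  rw [e] at h1
  exact h1

theorem N_le_zcY (j : ι) : Nj r j ≤ zc (o2 (Yj r j)) :=
  V_le_zc ((zpowers_le.2 (h.r_mem j)).trans (h.Z_le_zcY j)) (MinSimple.VModule.le_normalizer_o2 _)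

/-- `C_{Y_j}(N_j) ≤ D` -/
theorem cent_N_le (j : ι) : Yj r j ⊓ centralizer (Nj r j : Set G) ≤ centralizer (ZJ : Set G) := by
  intro x hx
  refine h.mem_cent fun l => ?_
  by_cases hl : l = j
  · rw [hl]
    exact (mem_centralizer_iff.1 hx.2 _ (r_mem_N j)).symm
  · exact mem_Yj.1 hx.1 l hl

/-- **`Q_j = C_O(N_j)`** -/
theorem inf_eq (j : ι) : o2 (centralizer (ZJ : Set G)) ⊓ centralizer (Nj r j : Set G) = o2 (Yj r j) := by
  apply le_antisymm
  · -- `O ∩ C(N_j)` is normal in `C_{Y_j}(N_j)`, which is normal in `Y_j`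
    have hO : o2 (centralizer (ZJ : Set G)) ≤ Yj r j := (Cfsg.Agent.ZN.o2_le _).trans (h.D_le_Y j)
    have hCD : Yj r j ⊓ centralizer (Nj r j : Set G) ≤ centralizer (ZJ : Set G) := h.cent_N_le j
    have hCN : ∀ y ∈ Yj r j, cj y (Yj r j ⊓ centralizer (Nj r j : Set G)) = Yj r j ⊓ centralizer (Nj r j : Set G) := by
      intro y hy
      rw [cj_inf, cj_centralizer, cj_eq_of_mem_normalizer (Y_norm_N j hy), cj_eq_of_mem_normalizer (le_normalizer hy)]
    have h1 : o2 (centralizer (ZJ : Set G)) ⊓ centralizer (Nj r j : Set G) ≤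
        o2 (Yj r j ⊓ centralizer (Nj r j : Set G)) := by
      refine MinSimple.VModule.le_o2 (le_inf (inf_le_left.trans hO) inf_le_right)
        ((MinSimple.VModule.o2_isPGroup _).to_le inf_le_left) fun c hc => ?_
      rw [mem_normalizer_iff_cj, cj_inf, cj_centralizer, cj_eq_of_mem_normalizer (Y_norm_N j hc.1),
        cj_eq_of_mem_normalizer (MinSimple.VModule.le_normalizer_o2 _ (hCD hc))]
    refine h1.trans (MinSimple.VModule.le_o2 ((Cfsg.Agent.ZN.o2_le _).trans inf_le_left)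
      (MinSimple.VModule.o2_isPGroup _) fun y hy => ?_)
    rw [mem_normalizer_iff_cj, ← ZN.ChoiceSit.o2_cj, hCN y hy]
  · refine le_inf (h.o2_Y_le_O j) (le_centralizer_iff.1 ?_)
    intro x hx
    rw [mem_centralizer_iff]
    exact (mem_zc.1 (h.N_le_zcY j hx)).2.2

end finite

end Fr

/-! ### transport -/

/-- `g` permutes the `r_l` as `σ` -/
def Pm (r : ι → G) (g : G) (σ : Equiv.Perm ι) : Prop := ∀ l, g * r l * g⁻¹ = r (σ l)

theorem Pm.inv {g : G} {σ : Equiv.Perm ι} (hg : Pm r g σ) : Pm r g⁻¹ σ.symm := by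
  intro l
  have h1 := hg (σ.symm l)
  rw [Equiv.apply_symm_apply] at h1
  rw [← h1]
  group

theorem conj_mem_Y {g : G} {σ : Equiv.Perm ι} (hg : Pm r g σ) {j : ι} {x : G} (hx : x ∈ Yj r j) :
    g * x * g⁻¹ ∈ Yj r (σ j) := by
  rw [mem_Yj] at hx ⊢
  intro l hl
  have h1 := hx (σ.symm l) fun e => hl (by rw [← e, Equiv.apply_symm_apply])
  have h2 := hg (σ.symm l)
  rw [Equiv.apply_symm_apply] at h2
  rw [← h2]
  calc g * x * g⁻¹ * (g * r (σ.symm l) * g⁻¹) = g * (x * r (σ.symm l)) * g⁻¹ := by group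
    _ = g * (r (σ.symm l) * x) * g⁻¹ := by rw [h1]
    _ = g * r (σ.symm l) * g⁻¹ * (g * x * g⁻¹) := by group

theorem cj_Y {g : G} {σ : Equiv.Perm ι} (hg : Pm r g σ) (j : ι) : cj g (Yj r j) = Yj r (σ j) := by
  apply le_antisymm
  · intro x hx
    rw [mem_cj] at hx
    have := conj_mem_Y hg hx
    have e : g * (g⁻¹ * x * g) * g⁻¹ = x := by group
    rwa [e] at this
  · intro x hx
    rw [mem_cj]
    have := conj_mem_Y hg.inv hx
    rwa [inv_inv, Equiv.symm_apply_apply] at this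

theorem conj_mem_N {j : ι} {p : G} (hp : p ∈ Yj r j) : p * r j * p⁻¹ ∈ Nj r j :=
  (mem_normalizer_iff.1 (Y_norm_N j hp) _).1 (r_mem_N j)

theorem N_le {j : ι} {A : Subgroup G} (hA : ∀ p ∈ Yj r j, p * r j * p⁻¹ ∈ A) : Nj r j ≤ A := by
  refine NoFF.Basic.V_le fun p hp x hx => ?_
  rw [NoFF.Basic.mem_conj] at hx
  obtain ⟨n, hn⟩ := mem_zpowers_iff.1 hx
  have e : x = (p * r j * p⁻¹) ^ n := by
    rw [conj_zpow, hn]
    group
  rw [e]
  exact zpow_mem (hA p hp) n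

theorem cj_N {g : G} {σ : Equiv.Perm ι} (hg : Pm r g σ) (j : ι) : cj g (Nj r j) = Nj r (σ j) := by
  have key : ∀ {g : G} {σ : Equiv.Perm ι}, Pm r g σ → ∀ j, cj g (Nj r j) ≤ Nj r (σ j) := by
    intro g σ hg j
    rw [cj_le_iff]
    refine N_le fun p hp => ?_
    rw [mem_cj, inv_inv]
    have h1 := conj_mem_N (conj_mem_Y hg hp)
    rw [← hg j] at h1
    have e : g * p * g⁻¹ * (g * r j * g⁻¹) * (g * p * g⁻¹)⁻¹ = g * (p * r j * p⁻¹) * g⁻¹ := by group
    rwa [e] at h1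
  apply le_antisymm (key hg j)
  have h1 := key hg.inv (σ j)
  rw [Equiv.symm_apply_apply, cj_le_iff, inv_inv] at h1
  exact h1

theorem Fr.cj_Z (h : Fr ZJ B r) {g : G} {σ : Equiv.Perm ι} (hg : Pm r g σ) : cj g ZJ = ZJ := by
  have key : ∀ {g : G} {σ : Equiv.Perm ι}, Pm r g σ → cj g ZJ ≤ ZJ := by
    intro g σ hg
    rw [cj_le_iff]
    conv_lhs => rw [h.gen]
    rw [closure_le]
    rintro _ ⟨l, rfl⟩
    rw [SetLike.mem_coe, mem_cj, inv_inv, hg l]
    exact h.r_mem _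
  apply le_antisymm (key hg)
  have h1 := key hg.inv
  rwa [cj_le_iff, inv_inv] at h1

theorem Fr.cj_O (h : Fr ZJ B r) {g : G} {σ : Equiv.Perm ι} (hg : Pm r g σ) :
    cj g (o2 (centralizer (ZJ : Set G))) = o2 (centralizer (ZJ : Set G)) := by
  rw [← ZN.ChoiceSit.o2_cj, cj_centralizer, h.cj_Z hg]

/-! ### the lever -/

/-- some `F ≤ O` moves `N_j`, `[E, F] ≤ N_j` for some `Y_j`-invariant `E ≥ N_i` -/
def Lv (ZJ : Subgroup G) (r : ι → G) (i j : ι) : Prop :=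
  ∃ E F : Subgroup G, Yj r j ≤ normalizer (E : Set G) ∧ Nj r i ≤ E ∧ F ≤ o2 (centralizer (ZJ : Set G)) ∧
    ¬ F ≤ centralizer (Nj r j : Set G) ∧ ∀ e ∈ E, ∀ f ∈ F, ⁅e, f⁆ ∈ Nj r j

theorem Fr.lv_cj (h : Fr ZJ B r) {g : G} {σ : Equiv.Perm ι} (hg : Pm r g σ) {i j : ι} (hl : Lv ZJ r i j) :
    Lv ZJ r (σ i) (σ j) := by
  obtain ⟨E, F, h1, h2, h3, h4, h5⟩ := hl
  refine ⟨cj g E, cj g F, ?_, ?_, ?_, ?_, ?_⟩
  · rw [← cj_Y hg, ← cj_normalizer]
    exact cj_mono g h1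
  · rw [← cj_N hg]
    exact cj_mono g h2
  · rw [← h.cj_O hg]
    exact cj_mono g h3
  · intro hc
    rw [← cj_N hg, ← cj_centralizer] at hc
    have h6 := cj_mono g⁻¹ hc
    rw [cj_inv_cj, cj_inv_cj] at h6
    exact h4 h6
  · intro e he f hf
    rw [mem_cj] at he hf
    have h6 := h5 _ he _ hf
    rw [← cj_N hg, mem_cj]
    have e1 : g⁻¹ * ⁅e, f⁆ * g = ⁅g⁻¹ * e * g, g⁻¹ * f * g⁆ := by
      simp only [commutatorElement_def]
      group
    rw [e1]
    exact h6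

section fin

variable [Finite G]

theorem Fr.lever (h : Fr ZJ B r) (hno : ∀ j, NoOn (o2 (centralizer (ZJ : Set G))) (Nj r j)) {i j : ι} {A : Subgroup G}
    (hA : A ∈ AA (o2 (centralizer (ZJ : Set G)))) (hm : ¬ A ≤ centralizer (Nj r j : Set G)) :
    Lv ZJ r i j ∨ Lv ZJ r j i := by
  set O : Subgroup G := o2 (centralizer (ZJ : Set G)) with hOdef
  set Y : Subgroup G := ⨆ b : Bool, Yj r (cond b i j) with hY
  set E : Subgroup G := NoFF.Basic.V ZJ Y with hE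
  have hYi : ∀ b : Bool, Yj r (cond b i j) ≤ Y := fun b => le_iSup (fun b : Bool => Yj r (cond b i j)) b
  have hYX : Y ≤ CT r ({i, j} : Set ι)ᶜ := by
    refine iSup_le fun b => ?_
    cases b
    · exact Y_le_CT'
    · exact Y_le_CT
  have hEO : E ≤ O := (h.E_le_o2 hYX).trans (h.o2_X_le_O i j)
  have hEe : IsElementaryAbelian 2 E := h.E_el hYX
  have hYE : Y ≤ normalizer (E : Set G) := norm_V
  have hOY : ∀ l, O ≤ Yj r l := fun l => (Cfsg.Agent.ZN.o2_le _).trans (h.D_le_Y l)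
  have hNE : ∀ b : Bool, Nj r (cond b i j) ≤ E := fun b => h.N_le_E (hYi b)
  have hD : EK3.Lever.Dt O E ZJ (fun b : Bool => Yj r (cond b i j)) (fun b : Bool => Nj r (cond b i j)) := by
    refine ⟨(ExactA.eab_iff.1 hEe).1, fun b => hOY _, fun b => (hYi b).trans hYE, Cfsg.Agent.ZN.o2_le _, ?_, hNE,
      fun b => Y_norm_N _, fun b => ?_, fun b F hF hFO => hno _ F hF hFO⟩
    · refine NoFF.Basic.V_le fun p hp => ?_
      refine le_trans ?_ (le_iSup (fun y : (⨆ b : Bool, Yj r (cond b i j) : Subgroup G) => cj (y : G) ZJ) ⟨p, hp⟩)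
      intro x hx
      rw [NoFF.Basic.mem_conj] at hx
      exact mem_cj.2 hx
    · rw [h.inf_eq]
      exact MinSimple.VModule.le_normalizer_o2 _
  have hAO : A ≤ O := hA.2.1
  have hoff : Offd E A := EK3.Rank.offd_of_mem hEe hEO hA ((hAO.trans (hOY i)).trans ((hYi true).trans hYE))
    (hNE false) hm
  obtain ⟨b, F, h1, h2, h3, h4⟩ := hD.lever hAO hA.1 hoff
  cases b
  · exact Or.inl ⟨E, F, (hYi false).trans hYE, hNE true, h1, h3, h4⟩
  · exact Or.inr ⟨E, F, (hYi true).trans hYE, hNE false, h1, h3, h4⟩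

omit [Finite G] in
/-- the elements `k ∈ N(N)` with `[E, k] ≤ N` -/
def cen (E N : Subgroup G) : Subgroup G where
  carrier := {k | k ∈ normalizer (N : Set G) ∧ ∀ e ∈ E, ⁅e, k⁆ ∈ N}
  one_mem' := ⟨one_mem _, fun e _ => by rw [commutatorElement_one_right]; exact one_mem _⟩
  mul_mem' := by
    rintro a b ⟨ha, ha'⟩ ⟨hb, hb'⟩
    refine ⟨mul_mem ha hb, fun e he => ?_⟩
    have e1 : ⁅e, a * b⁆ = ⁅e, a⁆ * (a * ⁅e, b⁆ * a⁻¹) := by
      simp only [commutatorElement_def]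
      group
    rw [e1]
    exact mul_mem (ha' e he) ((mem_normalizer_iff.1 ha _).1 (hb' e he))
  inv_mem' := by
    rintro a ⟨ha, ha'⟩
    refine ⟨inv_mem ha, fun e he => ?_⟩
    have e1 : ⁅e, a⁻¹⁆ = a⁻¹ * ⁅e, a⁆⁻¹ * a⁻¹⁻¹ := by
      simp only [commutatorElement_def]
      group
    rw [e1]
    exact (mem_normalizer_iff.1 (inv_mem ha) _).1 (inv_mem (ha' e he))

omit [Finite G] in
/-- **(3)** -/
theorem Fr.norm_sup (h : Fr ZJ B r) {i j : ι} (hl : Lv ZJ r i j)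
    (hqp : ∀ K : Subgroup G, K ≤ Yj r j → Yj r j ≤ normalizer (K : Set G) → ¬ K ≤ centralizer (ZJ : Set G) →
      Yj r j ≤ K ⊔ centralizer (ZJ : Set G)) : Yj r j ≤ normalizer ((Nj r i ⊔ Nj r j : Subgroup G) : Set G) := by
  obtain ⟨E, F, h1, h2, h3, h4, h5⟩ := hl
  have hFY : F ≤ Yj r j := (h3.trans (Cfsg.Agent.ZN.o2_le _)).trans (h.D_le_Y j)
  set K : Subgroup G := NoFF.Basic.V F (Yj r j) with hK
  have hKY : K ≤ Yj r j := NoFF.Basic.V_le fun p hp x hx => by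
    rw [NoFF.Basic.mem_conj] at hx
    have e : x = p * (p⁻¹ * x * p) * p⁻¹ := by group
    rw [e]
    exact mul_mem (mul_mem hp (hFY hx)) (inv_mem hp)
  have hKN : Yj r j ≤ normalizer (K : Set G) := norm_V
  have hKc : K ≤ cen E (Nj r j) := NoFF.Basic.V_le fun p hp x hx => by
    rw [NoFF.Basic.mem_conj] at hx
    refine ⟨Y_norm_N j ?_, fun e he => ?_⟩
    · have e : x = p * (p⁻¹ * x * p) * p⁻¹ := by group
      rw [e]
      exact mul_mem (mul_mem hp (hFY hx)) (inv_mem hp)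
    · have he' : p⁻¹ * e * p ∈ E := by
        have := (mem_normalizer_iff.1 (h1 (inv_mem hp)) e).1 he
        rwa [inv_inv] at this
      have h6 := h5 _ he' _ hx
      have h7 := (mem_normalizer_iff.1 (Y_norm_N j hp) _).1 h6
      have e1 : p * ⁅p⁻¹ * e * p, p⁻¹ * x * p⁆ * p⁻¹ = ⁅e, x⁆ := by
        simp only [commutatorElement_def]
        group
      rwa [e1] at h7
  have hKD : ¬ K ≤ centralizer (ZJ : Set G) := by
    intro hc
    apply h4
    have h6 : Nj r j ≤ centralizer (K : Set G) := by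
      refine N_le fun p hp => ?_
      rw [mem_centralizer_iff]
      intro k hk
      have h7 : p⁻¹ * k * p ∈ K := by
        have := (mem_normalizer_iff.1 (hKN (inv_mem hp)) k).1 hk
        rwa [inv_inv] at this
      have h8 := h.cent (hc h7) j
      calc k * (p * r j * p⁻¹) = p * ((p⁻¹ * k * p) * r j) * p⁻¹ := by group
        _ = p * (r j * (p⁻¹ * k * p)) * p⁻¹ := by rw [h8]
        _ = p * r j * p⁻¹ * k := by group
    exact (le_V (Z := F) (Y := Yj r j)).trans (le_centralizer_iff.1 h6)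
  refine (hqp K hKY hKN hKD).trans (sup_le ?_ ?_)
  · intro k hk
    have key : ∀ k ∈ K, ∀ x ∈ (Nj r i ⊔ Nj r j : Subgroup G), k * x * k⁻¹ ∈ (Nj r i ⊔ Nj r j : Subgroup G) := by
      intro k hk x hx
      have h6 : (Nj r i ⊔ Nj r j : Subgroup G) ≤ cj k⁻¹ (Nj r i ⊔ Nj r j) := by
        refine sup_le (fun n hn => ?_) fun n hn => ?_
        · rw [mem_cj, inv_inv]
          have h7 := (hKc hk).2 _ (h2 (inv_mem hn))
          have e : k * n * k⁻¹ = n * ⁅n⁻¹, k⁆ := by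
            simp only [commutatorElement_def]
            group
          rw [e]
          exact mul_mem (mem_sup_left hn) (mem_sup_right h7)
        · rw [mem_cj, inv_inv]
          exact mem_sup_right ((mem_normalizer_iff.1 (hKc hk).1 n).1 hn)
      have h7 := h6 hx
      rwa [mem_cj, inv_inv] at h7
    rw [mem_normalizer_iff]
    intro x
    refine ⟨key k hk x, fun hx => ?_⟩
    have h6 := key k⁻¹ (inv_mem hk) _ hx
    have e : k⁻¹ * (k * x * k⁻¹) * k⁻¹⁻¹ = x := by group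
    rwa [e] at h6
  · refine (le_inf ((h.D_le_Y i).trans (Y_norm_N i)) ((h.D_le_Y j).trans (Y_norm_N j))).trans ?_
    exact normalizer_inf_normalizer_le_normalizer_sup _ _

/-- **THEOREM S'.** -/
theorem Fr.main (h : Fr ZJ B r) [Nonempty ι] (hno : ∀ j, NoOn (o2 (centralizer (ZJ : Set G))) (Nj r j))
    (hqp : ∀ j, ∀ K : Subgroup G, K ≤ Yj r j → Yj r j ≤ normalizer (K : Set G) → ¬ K ≤ centralizer (ZJ : Set G) →
      Yj r j ≤ K ⊔ centralizer (ZJ : Set G))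
    (htr : ∀ i j i' j' : ι, i ≠ j → i' ≠ j' → ∃ (g : G) (σ : Equiv.Perm ι), Pm r g σ ∧ σ i = i' ∧ σ j = j') :
    ∃ W : Subgroup G, W ≠ ⊥ ∧ IsPGroup 2 W ∧ ∀ j, Yj r j ≤ normalizer (W : Set G) := by
  set O : Subgroup G := o2 (centralizer (ZJ : Set G)) with hOdef
  by_cases hJ : ∀ i j, jj (O ⊓ centralizer (Nj r i : Set G)) = jj (O ⊓ centralizer (Nj r j : Set G))
  · obtain ⟨i0⟩ := ‹Nonempty ι›
    refine ⟨jj (O ⊓ centralizer (Nj r i0 : Set G)), fun e => ?_, ?_, fun j => ?_⟩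
    · obtain ⟨A, hA⟩ := AA_nonempty (O ⊓ centralizer (Nj r i0 : Set G))
      have h1 := EK3.Rank.le_of_mem_inf (h.N_el i0) (h.N_le_O i0) (hno i0) hA
      have h2 := (h1.trans (le_jj hA)) (r_mem_N i0)
      rw [e, mem_bot] at h2
      exact h.ne i0 h2
    · exact (MinSimple.VModule.o2_isPGroup _).to_le ((ZN.ChoiceBase.jj_le _).trans inf_le_left)
    · rw [hJ i0 j]
      intro y hy
      rw [mem_normalizer_iff_cj, ← jj_cj, h.inf_eq, cj_eq_of_mem_normalizer (MinSimple.VModule.le_normalizer_o2 _ hy)]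
  push Not at hJ
  obtain ⟨i, j, hne⟩ := hJ
  have hij : i ≠ j := fun e => hne (by rw [e])
  obtain ⟨g, σ, hg, hσ1, hσ2⟩ := htr i j j i hij hij.symm
  have hcard := EK3.Rank.card_jj_of_cj g (h.cj_O hg) ((cj_N hg i).trans (by rw [hσ1]))
  obtain ⟨A, -, hA, hm⟩ := EK3.Rank.exists_moving (h.N_el i) (h.N_le_O i) (hno i) (h.N_el j) (h.N_le_O j) (hno j)
    hcard hne
  have hL : ∀ i' j' : ι, i' ≠ j' → Lv ZJ r i' j' := by
    intro i' j' hij'
    rcases h.lever hno (i := i) hA hm with h1 | h1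
    · obtain ⟨g, σ, hg, hσ1, hσ2⟩ := htr i j i' j' hij hij'
      have := h.lv_cj hg h1
      rwa [hσ1, hσ2] at this
    · obtain ⟨g, σ, hg, hσ1, hσ2⟩ := htr j i i' j' hij.symm hij'
      have := h.lv_cj hg h1
      rwa [hσ1, hσ2] at this
  refine ⟨⨆ i, Nj r i, fun e => ?_, ?_, fun j y hy => ?_⟩
  · have h1 : r i ∈ ⨆ i, Nj r i := (le_iSup (Nj r) i) (r_mem_N i)
    rw [e, mem_bot] at h1
    exact h.ne i h1
  · exact (MinSimple.VModule.o2_isPGroup (centralizer (ZJ : Set G))).to_le (iSup_le h.N_le_O)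
  · apply mem_normalizer_of_cj_le
    rw [cj_le_iff]
    refine iSup_le fun l => ?_
    by_cases hl : l = j
    · rw [hl, ← cj_le_iff, cj_eq_of_mem_normalizer (Y_norm_N j hy)]
      exact le_iSup (Nj r) j
    · have h1 := h.norm_sup (hL l j hl) (hqp j) hy
      refine le_sup_left.trans (?_ : (Nj r l ⊔ Nj r j : Subgroup G) ≤ _)
      rw [← cj_le_iff, cj_eq_of_mem_normalizer h1]
      exact sup_le (le_iSup (Nj r) l) (le_iSup (Nj r) j)

end fin

end Cfsg.Agent.Omega.ESym.Abs
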