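import Cfsg.Agent.Omega.ESOne.Def
import Cfsg.Agent.Omega.ESym.CoreS
import Cfsg.Agent.Omega.ESym.Prs
import Cfsg.Agent.MinSimple.Geo

/-!
# THEOREM S'' / S+: the fields `tr`, `sw` of `CoreS.Core`

`Fg B Q V ZJ L W Z C 2` (any index type, `Z i = {1, z i}`), the level `LB S K B ZJ`, UNI+ (`UniI`); `D = C_G(ZJ)`,
`O = O₂(D)`, `YY ZJ L i = ⟨D, L i⟩`, `NN ZJ L z i = ⟨z i ^ (YY i)⟩` (`ESOne/Def.lean`).

* `Lt` : this setting;
* `Lt.ZJ_eq` : `ZJ = ⟨z i⟩`;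
* `Lt.cj_L` : if `g` permutes the `z i` by `σ` then `(L i)^g ≤ ⟨D, L (σ i)⟩`;
* **`Lt.sy`** : then `g` induces `σ` : `CoreS.Sy O Y N g σ`;
* **`Lt.tr`**, **`Lt.sw`** : from the light pairs `Prs`.
-/

set_option autoImplicit false
set_option linter.unusedSectionVars false

namespace Cfsg.Agent.Omega.ESym

open Subgroup Cfsg Cfsg.Agent.ZN.ChoiceBase
open Cfsg.Agent.ZN (zc zl o2)
open Cfsg.Agent.Omega.FFThm (ActsSym)
open Cfsg.Agent.Omega.SQ1.FFSym (Sy u)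
open Cfsg.Agent.Omega.NO3S.EThree.Frame (Fg)
open Cfsg.Agent.Omega.OM.LevD (LB)
open Cfsg.Agent.Omega.Node.MultiOf (FBl)
open Cfsg.Agent.Omega.NO3S.ESym (UniI)
open Cfsg.Agent.Omega.EK3.StarE (EE)
open Cfsg.Agent.Omega.ESOne (DD OO YY NN)

universe v

variable {G : Type v} [Group G]

/-- The light frame. -/
structure Lt [Finite G] (S : Sylow 2 G) (K B ZJ Q V : Subgroup G) {ι : Type} (L W Z C : ι → Subgroup G)
    (z : ι → G) : Prop where
  lb : LB S K B ZJ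
  fr : Fg B Q V ZJ L W Z C 2
  hz : ∀ i x, x ∈ Z i ↔ x = 1 ∨ x = z i
  uni : UniI B ZJ L W

theorem cj_EE (g : G) (A H : Subgroup G) : cj g (EE A H) = EE (cj g A) (cj g H) := by
  unfold EE
  rw [cj, Subgroup.map_iSup]
  apply le_antisymm
  · refine iSup_le fun y => ?_
    have h1 : g * (y : G) * g⁻¹ ∈ cj g H := ⟨y, y.2, rfl⟩
    refine le_trans (le_of_eq ?_) (le_iSup (fun y : (cj g H : Subgroup G) => cj (y : G) (cj g A)) ⟨_, h1⟩)
    show cj g (cj (y : G) A) = cj (g * y * g⁻¹) (cj g A)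
    rw [cj_cj, cj_cj]
    congr 1
    group
  · refine iSup_le fun y => ?_
    obtain ⟨x, hx, e⟩ := y.2
    refine le_trans (le_of_eq ?_) (le_iSup (fun y : H => Subgroup.map (MulAut.conj g).toMonoidHom (cj (y : G) A)) ⟨x, hx⟩)
    have e' : g * x * g⁻¹ = (y : G) := e
    show cj (y : G) (cj g A) = cj g (cj x A)
    rw [cj_cj, cj_cj, ← e']
    congr 1
    group

theorem cj_closure_range {ι : Type} (g : G) (z : ι → G) (σ : Equiv.Perm ι) (h : ∀ l, g * z l * g⁻¹ = z (σ l)) :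
    cj g (closure (Set.range z)) = closure (Set.range z) := by
  rw [cj, MonoidHom.map_closure]
  congr 1
  ext x
  constructor
  · rintro ⟨_, ⟨l, rfl⟩, rfl⟩
    exact ⟨σ l, (h l).symm⟩
  · rintro ⟨l, rfl⟩
    refine ⟨z (σ.symm l), ⟨_, rfl⟩, ?_⟩
    have := h (σ.symm l)
    rw [Equiv.apply_symm_apply] at this
    exact this

namespace Lt

variable [Finite G] {S : Sylow 2 G} {K B ZJ Q V : Subgroup G} {ι : Type} {L W Z C : ι → Subgroup G} {z : ι → G}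
  (h : Lt S K B ZJ Q V L W Z C z)

include h

theorem mem_Z (i : ι) : z i ∈ Z i := (h.hz i _).2 (Or.inr rfl)

theorem mem_W (i : ι) : z i ∈ W i := (h.fr.blk i).ZV (h.mem_Z i)

theorem mem_ZJ (i : ι) : z i ∈ ZJ := h.fr.Z_le i (h.mem_Z i)

theorem z_ne (i : ι) : z i ≠ 1 := by
  intro e
  have h1 := h.fr.cardZ i
  have h2 : Z i = ⊥ := by
    rw [eq_bot_iff]
    intro x hx
    rcases (h.hz i x).1 hx with h3 | h3
    · exact h3
    · rw [mem_bot, h3, e]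
  rw [h2, card_bot] at h1
  omega

theorem zpowers_eq (i : ι) : zpowers (z i) = Z i := by
  apply le_antisymm
  · rw [zpowers_le]; exact h.mem_Z i
  · intro x hx
    rcases (h.hz i x).1 hx with rfl | rfl
    · exact one_mem _
    · exact mem_zpowers _

/-- `z i ∈ W j` only for `i = j` -/
theorem eq_of_mem {i j : ι} (hij : z i ∈ W j) : j = i := by
  by_contra hne
  apply h.z_ne i
  have h1 : z i ∈ W j ⊓ C j := ⟨hij, h.fr.WjC j i hne (h.mem_W i)⟩
  rwa [h.fr.dir j, mem_bot] at h1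

theorem inj {i j : ι} (e : z i = z j) : i = j := (h.eq_of_mem (j := j) (e ▸ h.mem_W j)).symm

/-- `ZJ` is generated by the `z i` -/
theorem ZJ_eq [Finite ι] : ZJ = closure (Set.range z) := by
  classical
  have := Fintype.ofFinite ι
  apply le_antisymm
  · have hZc : ∀ i, Z i ≤ closure (Set.range z) := fun i x hx => by
      rcases (h.hz i x).1 hx with rfl | rfl
      · exact one_mem _
      · exact subset_closure ⟨i, rfl⟩
    have key : ∀ s : Finset ι, ∀ x ∈ ZJ, ∃ w ∈ closure (Set.range z), w ∈ ZJ ∧ ∀ i ∈ s, w⁻¹ * x ∈ C i := by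
      intro s
      induction s using Finset.induction_on with
      | empty => exact fun x _ => ⟨1, one_mem _, one_mem _, fun i hi => by simp at hi⟩
      | insert j s hj ih =>
        intro x hx
        obtain ⟨w, hw, hwJ, hwC⟩ := ih x hx
        obtain ⟨a, ha, c, hc, hcJ, e⟩ := h.fr.split_ZJ j (mul_mem (inv_mem hwJ) hx)
        refine ⟨w * a, mul_mem hw (hZc j ha), mul_mem hwJ (h.fr.Z_le j ha), fun i hi => ?_⟩
        have e1 : (w * a)⁻¹ * x = a⁻¹ * (w⁻¹ * x) := by group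
        rw [e1]
        rcases Finset.mem_insert.1 hi with rfl | hi
        · rw [e]
          have : a⁻¹ * (a * c) = c := by group
          rw [this]
          exact hc
        · have hij : i ≠ j := fun e => hj (e ▸ hi)
          exact mul_mem (inv_mem (h.fr.WjC i j hij ((h.fr.blk j).ZV ha))) (hwC i hi)
    intro x hx
    obtain ⟨w, hw, hwJ, hwC⟩ := key Finset.univ x hx
    have h1 := h.fr.C0 (w⁻¹ * x) (mul_mem (inv_mem (h.fr.ZJV hwJ)) (h.fr.ZJV hx)) fun i =>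
      hwC i (Finset.mem_univ i)
    have h2 : x = w := (inv_mul_eq_one.1 h1).symm
    rw [h2]
    exact hw
  · rw [closure_le]
    rintro _ ⟨i, rfl⟩
    exact h.mem_ZJ i

theorem fbl (i : ι) : FBl B (L i) (W i) :=
  ⟨⟨_, _, h.fr.blk i⟩, (h.fr.blk i).toBlock (h.fr.cardZ i) h.lb.Bp h.lb.weakNormal⟩

/-- `n ∈ N_G(B)` with `n z_i n⁻¹ = z_j` carries `W i` to `W j` and `L i` into `⟨D, L j⟩` -/
theorem of_norm {n : G} (hn : n ∈ normalizer (B : Set G)) {i j : ι} (hij : n * z i * n⁻¹ = z j) :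
    cj n (W i) = W j ∧ cj n (L i) ≤ YY ZJ L j := by
  obtain ⟨m, hW, hL⟩ := h.uni _ _ ((h.fbl i).conj hn)
  have h1 : z j ∈ W m := by
    rw [← hW, ← hij]
    exact ⟨z i, h.mem_W i, rfl⟩
  have h2 := h.eq_of_mem h1
  subst h2
  refine ⟨hW, hL.trans (sup_le le_sup_right (le_sup_of_le_left (centralizer_le ?_)))⟩
  exact_mod_cast (le_sup_right : ZJ ≤ W m ⊔ ZJ)

variable [Finite ι] {g : G} {σ : Equiv.Perm ι} (hg : ∀ l, g * z l * g⁻¹ = z (σ l))

include hg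

theorem cj_ZJ : cj g ZJ = ZJ := by
  rw [h.ZJ_eq]
  exact cj_closure_range g z σ hg

theorem cj_D : cj g (centralizer (ZJ : Set G)) = centralizer (ZJ : Set G) := by
  rw [cj_centralizer, h.cj_ZJ hg]

theorem cj_L (i : ι) : cj g (L i) ≤ YY ZJ L (σ i) := by
  obtain ⟨d, hd, n, hn, e⟩ := h.lb.exists_frattini (mem_normalizer_iff_cj.2 (h.cj_ZJ hg))
  have h1 : n * z i * n⁻¹ = z (σ i) := by
    have h2 := hg i
    have h3 : d⁻¹ * z (σ i) * d = z (σ i) := by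
      have := mem_centralizer_iff.1 hd _ (h.mem_ZJ (σ i))
      rw [mul_assoc, this]; group
    calc n * z i * n⁻¹ = d⁻¹ * (g * z i * g⁻¹) * d := by rw [e]; group
      _ = z (σ i) := by rw [h2, h3]
  obtain ⟨-, h2⟩ := h.of_norm hn h1
  rw [e, ← cj_cj]
  refine (cj_mono d h2).trans (le_of_eq ?_)
  refine cj_eq_of_mem_normalizer (le_normalizer ?_)
  exact mem_sup_left hd

theorem cj_Y_le (i : ι) : cj g (YY ZJ L i) ≤ YY ZJ L (σ i) := by
  have e : cj g (YY ZJ L i) = cj g (centralizer (ZJ : Set G)) ⊔ cj g (L i) := Subgroup.map_sup _ _ _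
  rw [e, h.cj_D hg]
  exact sup_le le_sup_left (h.cj_L hg i)

theorem cj_Y (i : ι) : cj g (YY ZJ L i) = YY ZJ L (σ i) := by
  refine le_antisymm (h.cj_Y_le hg i) ?_
  have h1 : ∀ l, g⁻¹ * z l * g⁻¹⁻¹ = z (σ⁻¹ l) := by
    intro l
    have h2 := hg (σ⁻¹ l)
    rw [show σ (σ⁻¹ l) = l from σ.apply_symm_apply l] at h2
    rw [← h2]
    group
  have h3 := cj_mono g (h.cj_Y_le h1 (σ i))
  rwa [cj_cj_inv, show σ⁻¹ (σ i) = i from σ.symm_apply_apply i] at h3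

theorem cj_N (i : ι) : cj g (NN ZJ L z i) = NN ZJ L z (σ i) := by
  unfold NN
  rw [cj_EE, h.cj_Y hg]
  congr 1
  rw [cj, MonoidHom.map_zpowers]
  congr 1
  exact hg i

/-- **`g` induces `σ`.** -/
theorem sy : CoreS.Sy (OO ZJ) (YY ZJ L) (NN ZJ L z) g σ where
  O_eq := by
    unfold OO
    exact (MinSimple.Geo.cj_o2 g _).trans (congrArg o2 (h.cj_D hg))
  Y_eq := h.cj_Y hg
  N_eq := h.cj_N hg

end Lt

section fields

variable [Finite G] {S : Sylow 2 G} {K B ZJ Q V P : Subgroup G} {ι : Type} [Finite ι] {L W Z C : ι → Subgroup G}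
  {z : ι → G} {k n : ℕ} {o : Fin n} {e : G → Fin k → Fin n → ZMod 2} {J : ι → Fin k} {X Y : ι → Fin n} {T : Subgroup G}

/-- **Field `tr` of `CoreS.Core`.** -/
theorem Lt.tr (h : Lt S K B ZJ Q V L W Z C z) (hp : Prs T P V o e J X Y)
    (hz : ∀ l, z l = u P V ⊥ e (J l) (X l) (Y l)) (i j : ι) :
    ∃ g, ∃ σ : Equiv.Perm ι, CoreS.Sy (OO ZJ) (YY ZJ L) (NN ZJ L z) g σ ∧ σ i = j := by
  obtain ⟨g, -, ρ, h1, h2⟩ := hp.trans i j
  exact ⟨g, ρ, h.sy fun l => by rw [hz, hz]; exact h2 l, h1⟩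

/-- **Field `sw` of `CoreS.Core`.** -/
theorem Lt.sw (h : Lt S K B ZJ Q V L W Z C z) (hp : Prs T P V o e J X Y) (hn : 4 ≤ n)
    (hz : ∀ l, z l = u P V ⊥ e (J l) (X l) (Y l)) (i j : ι) (hij : i ≠ j) :
    ∃ g, ∃ σ : Equiv.Perm ι, CoreS.Sy (OO ZJ) (YY ZJ L) (NN ZJ L z) g σ ∧
      ((σ i = i ∧ σ j ≠ j) ∨ (σ i = j ∧ σ j = i)) := by
  rcases hp.sw hn hij with ⟨g, -, ρ, h1, h2, h3⟩ | ⟨g, -, ρ, h1, h2, h3⟩
  · exact ⟨g, ρ, h.sy fun l => by rw [hz, hz]; exact h3 l, Or.inl ⟨h1, h2⟩⟩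
  · exact ⟨g, ρ, h.sy fun l => by rw [hz, hz]; exact h3 l, Or.inr ⟨h1, h2⟩⟩

end fields

end Cfsg.Agent.Omega.ESym
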