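import Cfsg.Agent.Omega.EK3.Rank
import Cfsg.Agent.Omega.EK3.Lever
import Cfsg.Agent.Omega.NO3b.UMethod
import Cfsg.Agent.MinSimple.Geo

/-!
# THEOREM S (helper787 #23621), abstract core: 2-transitivity on the blocks kills case (E)

Pure group theory. `D ≤ Y i`, `Y i ⊓ C(Z i) ≤ D ≤ C(Z i)`, `N i = ⟨Z i ^ Y i⟩`, `O = O₂(D)`.

* `Cor D Y Z` : the situation; `tr` : a group acting 2-transitively on the indices;
* `Cor.false_or` : there is a 2-subgroup `≠ 1` normalised by all `Y i`.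
-/

set_option autoImplicit false
set_option linter.unusedSectionVars false

namespace Cfsg.Agent.Omega.ESym

open Subgroup Cfsg
open Cfsg.Agent.ZN (o2 jj)
open Cfsg.Agent.ZN.ChoiceBase
open Cfsg.Agent.Omega.NO3S.EThree
open Cfsg.Agent.Omega.NO3S.EThree.ExactA (eab_iff eab_mono)
open Cfsg.Agent.Omega.EK3.Rank
open Cfsg.Agent.MinSimple.VModule (o2_isPGroup o2_le le_o2 le_normalizer_o2)
open scoped commutatorElement

universe u

variable {G : Type u} [Group G] {ι : Type*}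

/-- `⟨Z ^ Y⟩` -/
def NN (Y Z : Subgroup G) : Subgroup G := ⨆ y : Y, cj (y : G) Z

theorem cj_le_NN {Y Z : Subgroup G} {y : G} (hy : y ∈ Y) : cj y Z ≤ NN Y Z :=
  le_iSup (fun y : Y => cj (y : G) Z) ⟨y, hy⟩

theorem le_NN {Y Z : Subgroup G} : Z ≤ NN Y Z := by
  have h := cj_le_NN (Y := Y) (Z := Z) (one_mem Y)
  rwa [cj_one] at h

theorem cj_sup_core (g : G) (H K : Subgroup G) : cj g (H ⊔ K) = cj g H ⊔ cj g K := Subgroup.map_sup _ _ _

theorem cj_iSup {κ : Sort*} (g : G) (H : κ → Subgroup G) : cj g (⨆ i, H i) = ⨆ i, cj g (H i) := Subgroup.map_iSup _ _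

theorem norm_of_cj_le {Y N : Subgroup G} (h : ∀ y ∈ Y, cj y N ≤ N) : Y ≤ normalizer (N : Set G) := by
  intro y hy
  rw [mem_normalizer_iff_cj]
  refine le_antisymm (h y hy) ?_
  have h1 := cj_mono y (h y⁻¹ (inv_mem hy))
  rwa [cj_cj_inv] at h1

theorem norm_NN {Y Z : Subgroup G} : Y ≤ normalizer (NN Y Z : Set G) := by
  refine norm_of_cj_le fun y hy => ?_
  rw [NN, cj_iSup]
  refine iSup_le fun x => ?_
  rw [cj_cj]
  exact cj_le_NN (mul_mem hy x.2)

theorem NN_le {Y Z M : Subgroup G} (hM : Y ≤ normalizer (M : Set G)) (h : Z ≤ M) : NN Y Z ≤ M := by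
  refine iSup_le fun y => ?_
  rw [← cj_eq_of_mem_normalizer (hM y.2)]
  exact cj_mono _ h

theorem cj_NN {Y Z : Subgroup G} (g : G) : cj g (NN Y Z) = NN (cj g Y) (cj g Z) := by
  apply le_antisymm
  · rw [NN, cj_iSup]
    refine iSup_le fun y => ?_
    have e : cj g (cj (y : G) Z) = cj (g * y * g⁻¹) (cj g Z) := by
      rw [cj_cj, cj_cj, inv_mul_cancel_right]
    rw [e]
    refine cj_le_NN ?_
    rw [mem_cj]
    have : g⁻¹ * (g * y * g⁻¹) * g = y := by group
    rw [this]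
    exact y.2
  · refine NN_le ?_ (cj_mono g le_NN)
    rw [← cj_normalizer]
    exact cj_mono g norm_NN

theorem cent_symm {A B : Subgroup G} (h : A ≤ centralizer (B : Set G)) : B ≤ centralizer (A : Set G) :=
  Subgroup.le_centralizer_iff.1 h

/-- **The situation of THEOREM S.** -/
structure Cor (D : Subgroup G) (Y Z : ι → Subgroup G) : Prop where
  DY : ∀ i, D ≤ Y i
  DZ : ∀ i, D ≤ centralizer (Z i : Set G)
  cen : ∀ i, Y i ⊓ centralizer (Z i : Set G) ≤ D
  sq : ∀ i, ∀ z ∈ Z i, z ^ 2 = 1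
  ne : ∀ i, Z i ≠ ⊥
  qD : ∀ i, o2 (Y i) ≤ D
  pair : ∀ i j, i ≠ j → ∃ X : Subgroup G, Y i ≤ X ∧ Y j ≤ X ∧ o2 X ≤ D ∧ X ⊓ centralizer (o2 X : Set G) ≤ o2 X ∧
    ∀ l, Z l ≤ X
  no : ∀ i, NoOn (o2 D) (NN (Y i) (Z i))
  gen : ∀ i, ∀ K : Subgroup G, K ≤ Y i → Y i ≤ normalizer (K : Set G) → ¬ K ≤ D → Y i ≤ K ⊔ D
  tr : ∀ i j i' j', i ≠ j → i' ≠ j' → ∃ (g : G) (σ : ι → ι), cj g D = D ∧ (∀ l, cj g (Y l) = Y (σ l)) ∧
    (∀ l, cj g (Z l) = Z (σ l)) ∧ σ i = i' ∧ σ j = j'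

namespace Cor

variable {D : Subgroup G} {Y Z : ι → Subgroup G} (h : Cor D Y Z)
include h

theorem ZD {i j : ι} (hij : i ≠ j) (l : ι) : Z l ≤ D := by
  obtain ⟨X, -, -, h3, h4, h5⟩ := h.pair i j hij
  exact (le_trans (le_inf (h5 l) (cent_symm (h3.trans (h.DZ l)))) h4).trans h3

theorem o2Y_le (i : ι) : o2 (Y i) ≤ o2 D :=
  le_o2 (h.qD i) (o2_isPGroup _) ((h.DY i).trans (le_normalizer_o2 _))

/-- `O₂(Y)` centralises `N` -/
theorem o2Y_cent (i : ι) : o2 (Y i) ≤ centralizer (NN (Y i) (Z i) : Set G) := by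
  apply cent_symm
  refine NN_le ?_ (cent_symm ((h.qD i).trans (h.DZ i)))
  intro y hy
  rw [mem_normalizer_iff_cj, cj_centralizer, cj_eq_of_mem_normalizer (le_normalizer_o2 _ hy)]

theorem cent_le (i : ι) : Y i ⊓ centralizer (NN (Y i) (Z i) : Set G) ≤ D :=
  (inf_le_inf_left _ (centralizer_le le_NN)).trans (h.cen i)

theorem norm_cent (i : ι) : Y i ≤ normalizer ((Y i ⊓ centralizer (NN (Y i) (Z i) : Set G) : Subgroup G) : Set G) := by
  intro y hy
  rw [mem_normalizer_iff_cj, cj_inf, cj_centralizer, cj_eq_of_mem_normalizer (le_normalizer hy),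
    cj_eq_of_mem_normalizer (norm_NN hy)]

/-- **`C_O(N) = O₂(Y)`** -/
theorem Q_eq (i : ι) : o2 D ⊓ centralizer (NN (Y i) (Z i) : Set G) = o2 (Y i) := by
  apply le_antisymm
  · set C := Y i ⊓ centralizer (NN (Y i) (Z i) : Set G) with hC
    have h1 : o2 D ⊓ centralizer (NN (Y i) (Z i) : Set G) ≤ C :=
      inf_le_inf_right _ ((o2_le D).trans (h.DY i))
    have h2 : o2 D ⊓ centralizer (NN (Y i) (Z i) : Set G) ≤ o2 C := by
      refine le_o2 h1 ((o2_isPGroup D).to_le inf_le_left) ?_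
      intro c hc
      rw [mem_normalizer_iff_cj, cj_inf, cj_centralizer, cj_eq_of_mem_normalizer (norm_NN hc.1),
        cj_eq_of_mem_normalizer (le_normalizer_o2 _ (h.cent_le i hc))]
    exact h2.trans (NO3b.UMethod.o2_le_o2_of_normal inf_le_left (h.norm_cent i))
  · exact le_inf (h.o2Y_le i) (h.o2Y_cent i)

theorem norm_Q (i : ι) : Y i ≤ normalizer ((o2 D ⊓ centralizer (NN (Y i) (Z i) : Set G) : Subgroup G) : Set G) := by
  rw [h.Q_eq i]
  exact le_normalizer_o2 _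

end Cor

/-- the group `E` of a pair -/
def EE (Y Z : ι → Subgroup G) (i j : ι) : Subgroup G := NN (Y i ⊔ Y j) (⨆ l, Z l)

namespace Cor

variable {D : Subgroup G} {Y Z : ι → Subgroup G} (h : Cor D Y Z)
include h

theorem exists_X {i j : ι} (hij : i ≠ j) : ∃ X : Subgroup G, Y i ≤ X ∧ Y j ≤ X ∧ o2 X ≤ D ∧
    EE Y Z i j ≤ o2 X ⊓ centralizer (o2 X : Set G) := by
  obtain ⟨X, h1, h2, h3, h4, h5⟩ := h.pair i j hij
  refine ⟨X, h1, h2, h3, NN_le ?_ (iSup_le fun l => ?_)⟩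
  · intro y hy
    have hy' : y ∈ X := sup_le h1 h2 hy
    rw [mem_normalizer_iff_cj, cj_inf, cj_centralizer, cj_eq_of_mem_normalizer (le_normalizer_o2 _ hy')]
  · have h6 : Z l ≤ centralizer (o2 X : Set G) := cent_symm (h3.trans (h.DZ l))
    exact le_inf ((le_inf (h5 l) h6).trans h4) h6

theorem ZZ_sq {i j : ι} (hij : i ≠ j) : IsElementaryAbelian 2 (⨆ l, Z l : Subgroup G) := by
  have hZD : (⨆ l, Z l : Subgroup G) ≤ D := iSup_le fun l => h.ZD hij l
  have hab : (⨆ l, Z l : Subgroup G) ≤ centralizer ((⨆ l, Z l : Subgroup G) : Set G) :=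
    cent_symm (iSup_le fun l => cent_symm (hZD.trans (h.DZ l)))
  rw [eab_iff]
  refine ⟨hab, fun x hx => ?_⟩
  induction hx using Subgroup.iSup_induction' with
  | hp l x hx => exact h.sq l x hx
  | h1 => exact one_pow 2
  | hmul x y hx hy hx1 hy1 =>
    have hc : x * y = y * x := (mem_centralizer_iff.1 (hab hx) y hy).symm
    rw [(show Commute x y from hc).mul_pow, hx1, hy1, one_mul]

theorem EE_el {i j : ι} (hij : i ≠ j) : IsElementaryAbelian 2 (EE Y Z i j : Subgroup G) := by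
  obtain ⟨X, h1, h2, h3, h4⟩ := h.exists_X hij
  have hab : EE Y Z i j ≤ centralizer (EE Y Z i j : Set G) :=
    (h4.trans inf_le_right).trans (centralizer_le (h4.trans inf_le_left))
  rw [eab_iff]
  refine ⟨hab, fun x hx => ?_⟩
  have hx' : x ∈ ⨆ y : (Y i ⊔ Y j : Subgroup G), cj (y : G) (⨆ l, Z l) := hx
  have key : ∀ x ∈ ⨆ y : (Y i ⊔ Y j : Subgroup G), cj (y : G) (⨆ l, Z l), x ^ 2 = 1 := by
    intro x hx
    induction hx using Subgroup.iSup_induction' with
    | hp y x hx =>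
      exact (eab_iff.1 (isElementaryAbelian_cj (y : G) (h.ZZ_sq hij))).2 x hx
    | h1 => exact one_pow 2
    | hmul x y hx hy hx1 hy1 =>
      have hc : x * y = y * x := (mem_centralizer_iff.1 (hab hx) y hy).symm
      rw [(show Commute x y from hc).mul_pow, hx1, hy1, one_mul]
  exact key x hx'

theorem NN_le_EE {i j : ι} (_hij : i ≠ j) : NN (Y i) (Z i) ≤ EE Y Z i j :=
  iSup_le fun y => (cj_mono _ (le_iSup Z i)).trans (cj_le_NN (le_sup_left (a := Y i) (b := Y j) y.2))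

theorem NN_le_EE' {i j : ι} (_hij : i ≠ j) : NN (Y j) (Z j) ≤ EE Y Z i j :=
  iSup_le fun y => (cj_mono _ (le_iSup Z j)).trans (cj_le_NN (le_sup_right (a := Y i) (b := Y j) y.2))

theorem EE_le_O {i j : ι} (hij : i ≠ j) : EE Y Z i j ≤ o2 D := by
  obtain ⟨X, h1, h2, h3, h4⟩ := h.exists_X hij
  exact (h4.trans inf_le_left).trans
    (le_o2 h3 (o2_isPGroup X) (((h.DY i).trans h1).trans (le_normalizer_o2 X)))

theorem N_el {i j : ι} (hij : i ≠ j) : IsElementaryAbelian 2 (NN (Y i) (Z i) : Subgroup G) :=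
  eab_mono (h.EE_el hij) (h.NN_le_EE hij)

theorem N_le_O {i j : ι} (hij : i ≠ j) : NN (Y i) (Z i) ≤ o2 D := (h.NN_le_EE hij).trans (h.EE_le_O hij)

end Cor

/-- Some `F ≤ O` moves `N j`, and `[N i, F^y] ≤ N j` for `y ∈ Y j`. -/
def Wt (D : Subgroup G) (Y Z : ι → Subgroup G) (i j : ι) : Prop :=
  ∃ F : Subgroup G, F ≤ o2 D ∧ ¬ F ≤ centralizer (NN (Y j) (Z j) : Set G) ∧
    ∀ y ∈ Y j, ∀ n ∈ NN (Y i) (Z i), ∀ f ∈ cj y F, ⁅n, f⁆ ∈ NN (Y j) (Z j)

namespace Cor

variable {D : Subgroup G} {Y Z : ι → Subgroup G} (h : Cor D Y Z)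
include h

theorem cj_o2D {g : G} (hg : cj g D = D) : cj g (o2 D) = o2 D := by
  have h1 : cj g (o2 D) = o2 (cj g D) := MinSimple.Geo.cj_o2 g D
  rw [h1, hg]

theorem wt_cj {i j : ι} (hw : Wt D Y Z i j) {g : G} {σ : ι → ι} (hD : cj g D = D) (hY : ∀ l, cj g (Y l) = Y (σ l))
    (hZ : ∀ l, cj g (Z l) = Z (σ l)) : Wt D Y Z (σ i) (σ j) := by
  obtain ⟨F, hF, hm, hc⟩ := hw
  have hN : ∀ l, cj g (NN (Y l) (Z l)) = NN (Y (σ l)) (Z (σ l)) := fun l => by rw [cj_NN, hY, hZ]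
  refine ⟨cj g F, ?_, ?_, ?_⟩
  · rw [← h.cj_o2D hD]
    exact cj_mono g hF
  · intro hcon
    apply hm
    rw [← hN j, ← cj_centralizer] at hcon
    have h1 := cj_mono g⁻¹ hcon
    rwa [cj_inv_cj, cj_inv_cj] at h1
  · intro y hy n hn f hf
    rw [← hY j, mem_cj] at hy
    rw [← hN i, mem_cj] at hn
    rw [cj_cj, mem_cj] at hf
    have hf' : g⁻¹ * f * g ∈ cj (g⁻¹ * y * g) F := by
      rw [mem_cj]
      have e : (g⁻¹ * y * g)⁻¹ * (g⁻¹ * f * g) * (g⁻¹ * y * g) = (y * g)⁻¹ * f * (y * g) := by group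
      rw [e]
      exact hf
    have h1 := hc _ hy _ hn _ hf'
    rw [← hN j, mem_cj]
    have e : g⁻¹ * ⁅n, f⁆ * g = ⁅g⁻¹ * n * g, g⁻¹ * f * g⁆ := by
      rw [commutatorElement_def, commutatorElement_def]; group
    rw [e]
    exact h1

variable [Finite G]

/-- **(3)** -/
theorem norm_of_wt {i j : ι} (hw : Wt D Y Z i j) :
    Y j ≤ normalizer ((NN (Y i) (Z i) ⊔ NN (Y j) (Z j) : Subgroup G) : Set G) := by
  obtain ⟨F, hF, hm, hc⟩ := hw
  set Ni := NN (Y i) (Z i) with hNi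
  set Nj := NN (Y j) (Z j) with hNj
  let K : Subgroup G := ⨆ y : Y j, cj (y : G) F
  have hKn : Y j ≤ normalizer (K : Set G) := norm_NN (Y := Y j) (Z := F)
  have hFY : F ≤ Y j := (hF.trans (o2_le D)).trans (h.DY j)
  have hKY : K ≤ Y j := NN_le le_normalizer hFY
  have hKD : ¬ K ≤ D := by
    intro hcon
    apply hm
    have h1 : K ≤ centralizer (Nj : Set G) := by
      apply cent_symm
      refine NN_le ?_ (cent_symm (hcon.trans (h.DZ j)))
      intro y hy
      rw [mem_normalizer_iff_cj, cj_centralizer, cj_eq_of_mem_normalizer (hKn hy)]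
    exact (le_NN (Y := Y j) (Z := F)).trans h1
  refine (h.gen j K hKY hKn hKD).trans (sup_le ?_ ?_)
  · refine iSup_le fun y => ?_
    refine norm_of_cj_le fun f hf => ?_
    rw [cj_sup_core]
    have hfY : f ∈ Y j := by
      have := (cj_le_NN (Y := Y j) (Z := F) y.2).trans hKY
      exact this hf
    refine sup_le ?_ ((cj_eq_of_mem_normalizer (norm_NN hfY)).le.trans le_sup_right)
    rintro _ ⟨n, hn, rfl⟩
    have hf1 : f⁻¹ ∈ cj (y : G) F := inv_mem hf
    have h1 : ⁅f, n⁆ ∈ Nj := by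
      have := inv_mem (hc y y.2 n hn f hf)
      rwa [commutatorElement_inv] at this
    have e : (MulAut.conj f).toMonoidHom n = ⁅f, n⁆ * n := by
      show f * n * f⁻¹ = _
      rw [commutatorElement_def]; group
    rw [e]
    exact mul_mem (le_sup_right (a := Ni) h1) (le_sup_left (a := Ni) hn)
  · intro d hd
    rw [mem_normalizer_iff_cj, cj_sup_core]
    have h1 : cj d Ni = Ni := cj_eq_of_mem_normalizer (norm_NN (h.DY i hd))
    have h2 : cj d Nj = Nj := cj_eq_of_mem_normalizer (norm_NN (h.DY j hd))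
    exact congrArg₂ (· ⊔ ·) h1 h2

/-- **(2)** : the lever -/
theorem wt_of_moving {i j : ι} (hij : i ≠ j) {A : Subgroup G} (hA : A ∈ AA (o2 D))
    (hmv : ¬ A ≤ centralizer (NN (Y j) (Z j) : Set G)) : Wt D Y Z i j ∨ Wt D Y Z j i := by
  obtain ⟨X, hX1, hX2, hX3, hX4⟩ := h.exists_X hij
  set E := EE Y Z i j with hE
  have hYE : Y i ⊔ Y j ≤ normalizer (E : Set G) := norm_NN
  have hAE : A ≤ normalizer (E : Set G) :=
    ((hA.2.1.trans (o2_le D)).trans (h.DY i)).trans (le_sup_left.trans hYE)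
  have hoff : Offd E A := EK3.Lever.offd_of_AA (h.EE_el hij) (h.EE_le_O hij) hA hAE
    fun hc => hmv (hc.trans (centralizer_le (h.NN_le_EE' hij)))
  have hcond : (⨆ b : Bool, Y (cond b i j)) = Y i ⊔ Y j := by
    rw [iSup_bool_eq]
    rfl
  have dt : EK3.Lever.Dt (o2 D) E (⨆ l, Z l) (fun b : Bool => Y (cond b i j))
      (fun b : Bool => NN (Y (cond b i j)) (Z (cond b i j))) :=
    { ab := (eab_iff.1 (h.EE_el hij)).1
      OY := fun b => (o2_le D).trans (h.DY _)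
      YE := by
        rintro (_ | _)
        · exact le_sup_right.trans hYE
        · exact le_sup_left.trans hYE
      OZ := (o2_le D).trans (cent_symm (iSup_le fun l => cent_symm (h.DZ l)))
      gen := by
        rw [hcond]
        exact le_rfl
      NE := by
        rintro (_ | _)
        · exact h.NN_le_EE' hij
        · exact h.NN_le_EE hij
      YN := fun b => norm_NN
      YQ := fun b => h.norm_Q _
      no := fun b F hF hFO => h.no _ F hF hFO }
  obtain ⟨b, F, h1, h2, h3, h4⟩ := dt.lever hA.2.1 hA.1 hoff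
  -- `[E, F^y] ≤ N` for `y ∈ Y`
  have key : ∀ l, (Y l ≤ normalizer (E : Set G)) → (∀ e ∈ E, ∀ f ∈ F, ⁅e, f⁆ ∈ NN (Y l) (Z l)) →
      ∀ y ∈ Y l, ∀ e ∈ E, ∀ f ∈ cj y F, ⁅e, f⁆ ∈ NN (Y l) (Z l) := by
    intro l hl hEF y hy e he f hf
    rw [mem_cj] at hf
    have he' : y⁻¹ * e * y ∈ E := by
      have := (mem_normalizer_iff.1 (hl (inv_mem hy)) e).1 he
      rwa [inv_inv] at this
    have h5 := hEF _ he' _ hf
    have h6 := (mem_normalizer_iff.1 (norm_NN (Z := Z l) hy) _).1 h5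
    have e1 : y * ⁅y⁻¹ * e * y, y⁻¹ * f * y⁆ * y⁻¹ = ⁅e, f⁆ := by
      rw [commutatorElement_def, commutatorElement_def]; group
    rwa [e1] at h6
  cases b
  · left
    exact ⟨F, h1, h3, fun y hy n hn f hf =>
      key j (le_sup_right.trans hYE) h4 y hy n (h.NN_le_EE hij hn) f hf⟩
  · right
    exact ⟨F, h1, h3, fun y hy n hn f hf =>
      key i (le_sup_left.trans hYE) h4 y hy n (h.NN_le_EE' hij hn) f hf⟩

/-- **THEOREM S**, abstract. -/
theorem exists_norm {a b : ι} (hab : a ≠ b) :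
    ∃ N : Subgroup G, N ≠ ⊥ ∧ IsPGroup 2 N ∧ ∀ i, Y i ≤ normalizer (N : Set G) := by
  set N : ι → Subgroup G := fun i => NN (Y i) (Z i) with hN
  have hel : ∀ i, IsElementaryAbelian 2 (N i) := fun i => by
    obtain ⟨j, hj⟩ : ∃ j, i ≠ j := by
      by_cases e : i = a
      · exact ⟨b, by rw [e]; exact hab⟩
      · exact ⟨a, e⟩
    exact h.N_el hj
  have hNO : ∀ i, N i ≤ o2 D := fun i => by
    obtain ⟨j, hj⟩ : ∃ j, i ≠ j := by
      by_cases e : i = a
      · exact ⟨b, by rw [e]; exact hab⟩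
      · exact ⟨a, e⟩
    exact h.N_le_O hj
  by_cases hJ : jj (o2 D ⊓ centralizer (N a : Set G)) = jj (o2 D ⊓ centralizer (N b : Set G))
  · -- all `J(Q i)` are equal
    have hall : ∀ i j, i ≠ j → jj (o2 D ⊓ centralizer (N i : Set G)) = jj (o2 D ⊓ centralizer (N j : Set G)) := by
      intro i j hij
      obtain ⟨g, σ, hD, hY, hZ, hi, hj⟩ := h.tr a b i j hab hij
      have h1 : ∀ l, cj g (jj (o2 D ⊓ centralizer (N l : Set G))) = jj (o2 D ⊓ centralizer (N (σ l) : Set G)) := by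
        intro l
        rw [← jj_cj, cj_inf, cj_centralizer, h.cj_o2D hD]
        congr 3
        show ((cj g (NN (Y l) (Z l)) : Subgroup G) : Set G) = _
        rw [cj_NN, hY, hZ]
      have h2 := congrArg (cj g) hJ
      rw [h1, h1, hi, hj] at h2
      exact h2
    refine ⟨jj (o2 D ⊓ centralizer (N a : Set G)), ?_, (o2_isPGroup D).to_le ((Cfsg.Agent.ZN.ChoiceBase.jj_le _).trans inf_le_left),
      fun i => ?_⟩
    · intro e
      obtain ⟨A, hA⟩ := AA_nonempty (o2 D ⊓ centralizer (N a : Set G))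
      have h1 := le_of_mem_inf (hel a) (hNO a) (h.no a) hA
      have h2 : Z a ≤ ⊥ := (le_NN.trans h1).trans ((le_jj hA).trans e.le)
      exact h.ne a (le_bot_iff.1 h2)
    · have h1 : jj (o2 D ⊓ centralizer (N a : Set G)) = jj (o2 D ⊓ centralizer (N i : Set G)) := by
        by_cases e : a = i
        · rw [e]
        · exact hall a i e
      rw [h1]
      intro y hy
      rw [mem_normalizer_iff_cj, ← jj_cj, cj_eq_of_mem_normalizer (h.norm_Q i hy)]
  · -- `N i ⊔ N j` is normalised by `Y j`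
    have hcard : Nat.card (jj (o2 D ⊓ centralizer (N a : Set G))) =
        Nat.card (jj (o2 D ⊓ centralizer (N b : Set G))) := by
      obtain ⟨g, σ, hD, hY, hZ, hi, -⟩ := h.tr a b b a hab hab.symm
      refine card_jj_of_cj g (h.cj_o2D hD) ?_
      show cj g (NN (Y a) (Z a)) = NN (Y b) (Z b)
      rw [cj_NN, hY, hZ, hi]
    obtain ⟨A, hA, hAO, hAm⟩ := exists_moving (hel a) (hNO a) (h.no a) (hel b) (hNO b) (h.no b) hcard hJ
    have hW : ∀ i j, i ≠ j → Wt D Y Z i j := by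
      intro i j hij
      rcases h.wt_of_moving hab hAO hAm with hw | hw
      · obtain ⟨g, σ, hD, hY, hZ, hi, hj⟩ := h.tr a b i j hab hij
        have := h.wt_cj hw hD hY hZ
        rwa [hi, hj] at this
      · obtain ⟨g, σ, hD, hY, hZ, hi, hj⟩ := h.tr b a i j hab.symm hij
        have := h.wt_cj hw hD hY hZ
        rwa [hi, hj] at this
    refine ⟨⨆ l, N l, ?_, (o2_isPGroup D).to_le (iSup_le hNO), fun i => ?_⟩
    · intro e
      have h2 : Z a ≤ ⊥ := (le_NN (Y := Y a)).trans ((le_iSup N a).trans e.le)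
      exact h.ne a (le_bot_iff.1 h2)
    · refine norm_of_cj_le fun y hy => ?_
      rw [cj_iSup]
      refine iSup_le fun l => ?_
      by_cases e : l = i
      · subst e
        exact (cj_eq_of_mem_normalizer (norm_NN hy)).le.trans (le_iSup N l)
      · have h1 := cj_eq_of_mem_normalizer (h.norm_of_wt (hW l i e) hy)
        exact (cj_mono y le_sup_left).trans (h1.le.trans (sup_le (le_iSup N l) (le_iSup N i)))

end Cor

end Cfsg.Agent.Omega.ESym
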