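import Cfsg.Agent.Omega.EK3.StarE

/-!
# THEOREM S'' (helper497 #23971, after helper787 #23621): the digraph argument

Pure group theory.  `O` centralises `ZJ`, `O ≤ D ≤ Y i`, `N i ≤ O` elementary abelian, normal in `Y i`, `Q i = O ⊓ C(N i)`
normal in `Y i`, `(NO)` for `O` on `N i`, `(QP)`: `Y j = K D` for every normal subgroup `K` of `Y j` moving `N j`;
`EE ZJ ⟨Y i : i ∉ Λ⟩` is elementary abelian and in `O` for `Λ ≠ ∅`; no nontrivial subgroup of `O` is normalised by all `Y i`.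
`Sg O Y N g σ` : `g` normalises `O` and permutes the pairs `(Y i, N i)` as `σ`.

* `Fr` : this setting;
* `Rel Y N i j` : `Y j` normalises `N i N j`; `Fr.exists_rel` : **(*)** for all `∅ ≠ Λ ≠ I` there is `j ∉ Λ` with
  `Rel i j` for all `i ∉ Λ`, if the `Sg`-elements are transitive;
* `Fr.not_all` : not all `Rel i j`;
* `Fr.false_of_swap` : **contradiction, if moreover `|I| ≥ 3` and some `Sg`-element acts as a transposition `(a b)`**.
-/

set_option autoImplicit false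
set_option linter.unusedSectionVars false

namespace Cfsg.Agent.Omega.ESym

open Subgroup Cfsg Cfsg.Agent.ZN Cfsg.Agent.ZN.ChoiceBase
open Cfsg.Agent.Omega.NO3S.EThree
open Cfsg.Agent.Omega.NO3S.EThree.ExactA (eab_mono eab_sup eab_iff)
open Cfsg.Agent.Omega.EK3.Rank (NoOn)
open Cfsg.Agent.Omega.EK3.StarE (EE EE_mono norm_EE le_norm_of_cj_le cj_iSup_le)
open scoped commutatorElement

universe u

variable {G : Type u} [Group G]

theorem cj_sup (g : G) (H K : Subgroup G) : cj g (H ⊔ K) = cj g H ⊔ cj g K := Subgroup.map_sup H K _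

/-- **The frame.** -/
structure Fr {ι : Type*} (O D ZJ : Subgroup G) (Y N : ι → Subgroup G) : Prop where
  OD : O ≤ D
  OZ : O ≤ centralizer (ZJ : Set G)
  DY : ∀ i, D ≤ Y i
  eab : ∀ i, IsElementaryAbelian 2 (N i)
  N1 : ∀ i, N i ≠ ⊥
  NO : ∀ i, N i ≤ O
  YN : ∀ i, Y i ≤ normalizer (N i : Set G)
  YQ : ∀ i, Y i ≤ normalizer ((O ⊓ centralizer (N i : Set G) : Subgroup G) : Set G)
  no : ∀ i, NoOn O (N i)
  nl : ∀ U : Subgroup G, U ≤ O → (∀ i, Y i ≤ normalizer (U : Set G)) → U = ⊥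
  qp : ∀ j, ∀ K : Subgroup G, K ≤ Y j → Y j ≤ normalizer (K : Set G) → ¬ K ≤ centralizer (N j : Set G) → Y j ≤ K ⊔ D
  Eeab : ∀ Λ : Set ι, Λ.Nonempty → IsElementaryAbelian 2 (EE ZJ (⨆ i : {i // i ∉ Λ}, Y i))
  EO : ∀ Λ : Set ι, Λ.Nonempty → EE ZJ (⨆ i : {i // i ∉ Λ}, Y i) ≤ O
  NE : ∀ i, N i ≤ EE ZJ (Y i)

/-- `g` permutes the data as `σ`. -/
structure Sg {ι : Type*} (O : Subgroup G) (Y N : ι → Subgroup G) (g : G) (σ : Equiv.Perm ι) : Prop where
  eqO : cj g O = O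
  eqY : ∀ i, cj g (Y i) = Y (σ i)
  eqN : ∀ i, cj g (N i) = N (σ i)

/-- `Y j` normalises `N i N j`. -/
def Rel {ι : Type*} (Y N : ι → Subgroup G) (i j : ι) : Prop := Y j ≤ normalizer ((N i ⊔ N j : Subgroup G) : Set G)

variable {ι : Type*} {O D ZJ : Subgroup G} {Y N : ι → Subgroup G}

theorem Sg.rel {g : G} {σ : Equiv.Perm ι} (s : Sg O Y N g σ) {i j : ι} (h : Rel Y N i j) : Rel Y N (σ i) (σ j) := by
  unfold Rel at *
  rw [← s.eqY, ← s.eqN, ← s.eqN, ← cj_sup, ← cj_normalizer]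
  exact cj_mono g h

namespace Fr

variable (h : Fr O D ZJ Y N)
include h

theorem dt {Λ : Set ι} (hΛ : Λ.Nonempty) : EK3.Lever.Dt O (EE ZJ (⨆ i : {i // i ∉ Λ}, Y i)) ZJ
    (fun i : {i // i ∉ Λ} => Y i) (fun i : {i // i ∉ Λ} => N i) where
  ab := (eab_iff.1 (h.Eeab Λ hΛ)).1
  OY := fun i => h.OD.trans (h.DY i)
  YE := fun i => (le_iSup (fun i : {i // i ∉ Λ} => Y i) i).trans (norm_EE _ _)
  OZ := h.OZ
  gen := le_rfl
  NE := fun i => (h.NE i).trans (EE_mono (le_iSup (fun i : {i // i ∉ Λ} => Y i) i))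
  YN := fun i => h.YN i
  YQ := fun i => h.YQ i
  no := fun i => h.no i

/-- `K = {y ∈ Y j : [E, y] ≤ N j}` is a normal subgroup of `Y j`. -/
theorem rel_of {E : Subgroup G} {j : ι} (hYE : Y j ≤ normalizer (E : Set G)) {F : Subgroup G} (hFO : F ≤ O) (hmv : ¬ F ≤ centralizer (N j : Set G))
    (hc : ∀ e ∈ E, ∀ f ∈ F, ⁅e, f⁆ ∈ N j) {i : ι} (hi : N i ≤ E) : Rel Y N i j := by
  have hn : ∀ y ∈ Y j, ∀ n, n ∈ N j ↔ y * n * y⁻¹ ∈ N j := fun y hy n => mem_normalizer_iff.1 (h.YN j hy) n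
  have hEe : ∀ y ∈ Y j, ∀ n, n ∈ E ↔ y * n * y⁻¹ ∈ E := fun y hy n => mem_normalizer_iff.1 (hYE hy) n
  let K : Subgroup G :=
    { carrier := {y | y ∈ Y j ∧ ∀ e ∈ E, e * y * e⁻¹ * y⁻¹ ∈ N j}
      one_mem' := ⟨one_mem _, fun e _ => by
        have : e * 1 * e⁻¹ * 1⁻¹ = 1 := by group
        rw [this]
        exact one_mem _⟩
      mul_mem' := fun {a b} ha hb => ⟨mul_mem ha.1 hb.1, fun e he => by
        have e1 : e * (a * b) * e⁻¹ * (a * b)⁻¹ = (e * a * e⁻¹ * a⁻¹) * (a * (e * b * e⁻¹ * b⁻¹) * a⁻¹) := by group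
        rw [e1]
        exact mul_mem (ha.2 e he) ((hn a ha.1 _).1 (hb.2 e he))⟩
      inv_mem' := fun {a} ha => ⟨inv_mem ha.1, fun e he => by
        have e1 : e * a⁻¹ * e⁻¹ * (a⁻¹)⁻¹ = a⁻¹ * (a * e * a⁻¹ * e⁻¹) * (a⁻¹)⁻¹ := by group
        have e2 : a * e * a⁻¹ * e⁻¹ = (e * a * e⁻¹ * a⁻¹)⁻¹ := by group
        rw [e1, e2]
        exact (hn _ (inv_mem ha.1) _).1 (inv_mem (ha.2 e he))⟩ }
  have hKY : K ≤ Y j := fun y hy => hy.1
  have hYK : Y j ≤ normalizer (K : Set G) := by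
    refine le_norm_of_cj_le fun y hy => ?_
    rintro _ ⟨k, hk, rfl⟩
    refine ⟨mul_mem (mul_mem hy hk.1) (inv_mem hy), fun e he => ?_⟩
    have h1 : y⁻¹ * e * y ∈ E := by
      have := (hEe _ (inv_mem hy) e).1 he
      rwa [inv_inv] at this
    have e1 : e * (y * k * y⁻¹) * e⁻¹ * (y * k * y⁻¹)⁻¹ =
        y * ((y⁻¹ * e * y) * k * (y⁻¹ * e * y)⁻¹ * k⁻¹) * y⁻¹ := by group
    show e * (y * k * y⁻¹) * e⁻¹ * (y * k * y⁻¹)⁻¹ ∈ N j
    rw [e1]
    exact (hn y hy _).1 (hk.2 _ h1)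
  have hFK : F ≤ K := fun f hf => ⟨(hFO.trans (h.OD.trans (h.DY j))) hf, fun e he => hc e he f hf⟩
  have hY := h.qp j K hKY hYK fun h1 => hmv (hFK.trans h1)
  have hK : K ≤ normalizer ((N i ⊔ N j : Subgroup G) : Set G) := by
    refine le_norm_of_cj_le fun k hk => ?_
    rw [cj_sup]
    refine sup_le ?_ ?_
    · rintro _ ⟨n, hn', rfl⟩
      show k * n * k⁻¹ ∈ _
      have h1 := hk.2 n (hi hn')
      have e1 : k * n * k⁻¹ = (n * k * n⁻¹ * k⁻¹)⁻¹ * n := by group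
      rw [e1]
      exact mul_mem (mem_sup_right (inv_mem h1)) (mem_sup_left hn')
    · refine le_trans ?_ le_sup_right
      exact (cj_eq_of_mem_normalizer (h.YN j (hKY hk))).le
  refine hY.trans (sup_le hK ?_)
  refine le_norm_of_cj_le fun d hd => ?_
  rw [cj_sup, cj_eq_of_mem_normalizer (h.YN i (h.DY i hd)), cj_eq_of_mem_normalizer (h.YN j (h.DY j hd))]

/-- Not all `Rel i j`. -/
theorem not_all [Nonempty ι] : ¬ ∀ i j, Rel Y N i j := by
  intro hall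
  have h1 := h.nl (⨆ i, N i) (iSup_le h.NO) fun j => by
    refine le_norm_of_cj_le fun y hy => ?_
    refine cj_iSup_le fun i => ?_
    have h2 : cj y (N i ⊔ N j) = N i ⊔ N j := cj_eq_of_mem_normalizer (hall i j hy)
    have h3 : cj y (N i) ≤ N i ⊔ N j := by
      rw [← h2]
      exact cj_mono y le_sup_left
    exact h3.trans (sup_le (le_iSup N i) (le_iSup N j))
  obtain ⟨i⟩ := ‹Nonempty ι›
  exact h.N1 i (le_bot_iff.1 ((le_iSup N i).trans h1.le))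

variable [Finite G]

/-- If `J(O)` centralises `N i`, then `Y i` normalises `J(O)`. -/
theorem norm_jj {i : ι} (hi : jj O ≤ centralizer (N i : Set G)) : Y i ≤ normalizer (jj O : Set G) := by
  have e : jj O = jj (O ⊓ centralizer (N i : Set G)) := by
    apply le_antisymm
    · conv_lhs => rw [jj_eq]
      refine sSup_le fun A hA => le_jj ?_
      exact EK3.Rank.mem_inf_of_mem_AA (h.eab i) (h.NO i) (h.no i) hA ((le_jj hA).trans hi)
    · exact EK3.Rank.jj_inf_le (h.eab i) (h.NO i) (h.no i)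
  rw [e]
  refine le_norm_of_cj_le fun y hy => ?_
  rw [← jj_cj, cj_eq_of_mem_normalizer (h.YQ i hy)]

theorem jj_ne [Nonempty ι] : jj O ≠ ⊥ := by
  intro e
  obtain ⟨i⟩ := ‹Nonempty ι›
  obtain ⟨A, hA⟩ := AA_nonempty O
  have h1 : A = ⊥ := le_bot_iff.1 ((le_jj hA).trans e.le)
  have h2 := card_le_mm (h.eab i) (h.NO i)
  rw [mm_eq hA, h1, card_bot] at h2
  exact h.N1 i (Subgroup.card_eq_one.1 (le_antisymm h2 Nat.card_pos))

/-- **(1)** `J(O)` does not centralise `N i`. -/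
theorem jj_moves (ht : ∀ i j, ∃ g σ, Sg O Y N g σ ∧ σ i = j) (i : ι) : ¬ jj O ≤ centralizer (N i : Set G) := by
  intro hi
  have : Nonempty ι := ⟨i⟩
  refine h.jj_ne (h.nl _ (ChoiceBase.jj_le _) fun j => ?_)
  obtain ⟨g, σ, s, rfl⟩ := ht i j
  have h1 := cj_mono g (h.norm_jj hi)
  rwa [s.eqY, cj_normalizer, ← jj_cj, s.eqO] at h1

/-- **(*)** -/
theorem exists_rel (ht : ∀ i j, ∃ g σ, Sg O Y N g σ ∧ σ i = j) {Λ : Set ι} (hΛ : Λ.Nonempty) (hΛ' : Λᶜ.Nonempty) :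
    ∃ j, j ∉ Λ ∧ ∀ i, i ∉ Λ → Rel Y N i j := by
  set E := EE ZJ (⨆ i : {i // i ∉ Λ}, Y i) with hE
  obtain ⟨i₀, hi₀⟩ := hΛ'
  have d := h.dt hΛ
  rw [← hE] at d
  have hNE : ∀ i, i ∉ Λ → N i ≤ E := fun i hi => d.NE ⟨i, hi⟩
  -- a member of `AA(O)` moving `E`
  obtain ⟨A, hA, hmv⟩ : ∃ A ∈ AA O, ¬ A ≤ centralizer (N i₀ : Set G) := by
    by_contra hcon
    push Not at hcon
    refine h.jj_moves ht i₀ ?_
    rw [jj_eq]
    exact sSup_le hcon
  have hYE : O ≤ normalizer (E : Set G) := (d.OY ⟨i₀, hi₀⟩).trans (d.YE ⟨i₀, hi₀⟩)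
  have hoff := EK3.Lever.offd_of_AA (h.Eeab Λ hΛ) (h.EO Λ hΛ) hA (hA.2.1.trans hYE)
    fun hc => hmv (hc.trans (centralizer_le (hNE i₀ hi₀)))
  obtain ⟨j, F, hFO, -, hFm, hFc⟩ := d.lever hA.2.1 hA.1 hoff
  exact ⟨j, j.2, fun i hi => h.rel_of (d.YE j) hFO hFm hFc (hNE i hi)⟩

/-- **THEOREM S''.** -/
theorem false_of_swap [Finite ι] (ht : ∀ i j, ∃ g σ, Sg O Y N g σ ∧ σ i = j) (h3 : ∀ i j : ι, ∃ l, l ≠ i ∧ l ≠ j)
    {a b : ι} (hab : a ≠ b) {g : G} {σ : Equiv.Perm ι} (s : Sg O Y N g σ) (sa : σ a = b) (sb : σ b = a)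
    (so : ∀ i, i ≠ a → i ≠ b → σ i = i) : False := by
  classical
  have : Nonempty ι := ⟨a⟩
  -- every `j` has some `l` with not `Rel l j`
  obtain ⟨i₀, j₀, hij⟩ : ∃ i j, ¬ Rel Y N i j := by
    by_contra hcon
    push Not at hcon
    exact h.not_all hcon
  have hD : ∀ j, ∃ l, ¬ Rel Y N l j := by
    intro j
    obtain ⟨g', τ, s', rfl⟩ := ht j j₀
    refine ⟨τ.symm i₀, fun hr => hij ?_⟩
    have := s'.rel hr
    rwa [Equiv.apply_symm_apply] at this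
  -- `(*)` for `{l}`
  have h1 : ∀ l, ∃ j, j ≠ l ∧ (∀ i, i ≠ l → Rel Y N i j) ∧ ¬ Rel Y N l j := by
    intro l
    obtain ⟨m, hm, -⟩ := h3 l l
    obtain ⟨j, hj, hr⟩ := h.exists_rel ht (Λ := {l}) ⟨l, rfl⟩ ⟨m, hm⟩
    refine ⟨j, hj, hr, ?_⟩
    obtain ⟨l', hl'⟩ := hD j
    by_cases e : l' = l
    · rwa [e] at hl'
    · exact absurd (hr l' e) hl'
  choose f hf1 hf2 hf3 using h1
  -- `f` is injective, so surjective
  have hinj : Function.Injective f := by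
    intro l l' e
    by_contra hne
    have := hf2 l' l hne
    rw [← e] at this
    exact hf3 l this
  have hsur := Finite.surjective_of_injective hinj
  -- uniqueness
  have huniq : ∀ l j, ¬ Rel Y N l j → j = f l := by
    intro l j hr
    obtain ⟨l', rfl⟩ := hsur j
    by_contra hne
    have hll : l ≠ l' := fun e => hne (by rw [e])
    exact hr (hf2 l' l hll)
  -- `f` commutes with `σ`
  have hcomm : ∀ l, f (σ l) = σ (f l) := by
    intro l
    symm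
    apply huniq
    intro hr
    apply hf3 l
    -- apply `σ⁻¹`: use that `σ` is an involution
    have hσσ : ∀ i, σ (σ i) = i := by
      intro i
      by_cases ha : i = a
      · rw [ha, sa, sb]
      · by_cases hb : i = b
        · rw [hb, sb, sa]
        · rw [so i ha hb, so i ha hb]
    have := s.rel hr
    rwa [hσσ, hσσ] at this
  -- `f a = b` and `f b = a`
  have key : ∀ x y : ι, ((x = a ∧ y = b) ∨ (x = b ∧ y = a)) → f x = y := by
    intro x y hxy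
    by_contra hne
    have hx : f x ≠ x := hf1 x
    have hfa : f x ≠ a := by
      rcases hxy with ⟨rfl, rfl⟩ | ⟨rfl, rfl⟩
      · exact hx
      · exact hne
    have hfb : f x ≠ b := by
      rcases hxy with ⟨rfl, rfl⟩ | ⟨rfl, rfl⟩
      · exact hne
      · exact hx
    have h4 := hcomm x
    rw [so _ hfa hfb] at h4
    have h5 := hinj h4
    rcases hxy with ⟨rfl, rfl⟩ | ⟨rfl, rfl⟩
    · rw [sa] at h5; exact hab h5.symm
    · rw [sb] at h5; exact hab h5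
  have hfa := key a b (Or.inl ⟨rfl, rfl⟩)
  have hfb := key b a (Or.inr ⟨rfl, rfl⟩)
  -- `(*)` for the complement of `{a, b}`
  obtain ⟨c, hca, hcb⟩ := h3 a b
  obtain ⟨j, hj, hr⟩ := h.exists_rel ht (Λ := {i | i ≠ a ∧ i ≠ b}) ⟨c, hca, hcb⟩ ⟨a, fun h => h.1 rfl⟩
  have hj' : j = a ∨ j = b := by
    by_contra hcon
    push Not at hcon
    exact hj hcon
  rcases hj' with rfl | rfl
  · have := hf3 b
    rw [hfb] at this
    exact this (hr b fun h => h.2 rfl)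
  · have := hf3 a
    rw [hfa] at this
    exact this (hr a fun h => h.1 rfl)

end Fr

end Cfsg.Agent.Omega.ESym
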