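import Cfsg.Agent.Omega.ESym.Digraph
import Cfsg.Agent.Omega.ESym.CoreS

/-!
# THEOREM U (helper23 #24127), parts (1) and (2)

Frame `ESym.Fr` of THEOREM S'' (`Omega/ESym/Digraph.lean`), with `D` normalising `O`, `N i ≤ C(N j)`, at least three
indices, and `[ZJ, Y i] ≤ N i`.  NO transitivity.

* `Sg.inv`, `Sg.mul`;
* `exists_aa` : **(1)** some `A ∈ AA(O)` centralises all `N i` and moves `E_{lm} = ⟨ZJ^⟨Y l, Y m⟩⟩`, `l ≠ m`;
* `no_swap` : **(2)** for such `l, m` no `Sg`-element acts as the transposition `(l m)`;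
* `main` : both;
* `le_of_syl` : (2) in group-theoretic form: `B ∈ Syl₂(X)` for every `X ≤ C(z n)`, `n ≠ l, m`.
-/

set_option autoImplicit false
set_option linter.unusedSectionVars false

namespace Cfsg.Agent.Omega.ESym.ThU

open Subgroup Cfsg Cfsg.Agent.ZN Cfsg.Agent.ZN.ChoiceBase
open Cfsg.Agent.Omega.ESym
open Cfsg.Agent.Omega.NO3S.EThree
open Cfsg.Agent.Omega.NO3S.EThree.ExactA (eab_mono eab_sup eab_iff)
open Cfsg.Agent.Omega.EK3.Rank (NoOn)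
open Cfsg.Agent.Omega.EK3.StarE (EE EE_mono EE_le cj_le_EE le_EE norm_EE le_norm_of_cj_le cj_iSup_le)
open scoped commutatorElement

universe u

variable {G : Type u} [Group G] {ι : Type*} {O D ZJ : Subgroup G} {Y N : ι → Subgroup G}

theorem sg_inv {g : G} {σ : Equiv.Perm ι} (s : Sg O Y N g σ) : Sg O Y N g⁻¹ σ⁻¹ where
  eqO := by
    conv_lhs => rw [← s.eqO]
    exact cj_inv_cj g O
  eqY := fun l => by
    have := s.eqY (σ⁻¹ l)
    rw [CoreS.inv_r σ l] at this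
    rw [← this, cj_inv_cj]
  eqN := fun l => by
    have := s.eqN (σ⁻¹ l)
    rw [CoreS.inv_r σ l] at this
    rw [← this, cj_inv_cj]

theorem sg_mul {g g' : G} {σ τ : Equiv.Perm ι} (s : Sg O Y N g σ) (t : Sg O Y N g' τ) :
    Sg O Y N (g * g') (σ * τ) where
  eqO := by rw [← cj_cj, t.eqO, s.eqO]
  eqY := fun l => by rw [← cj_cj, t.eqY, s.eqY]; rfl
  eqN := fun l => by rw [← cj_cj, t.eqN, s.eqN]; rfl

/-- the `Sg`-orbit of `l` -/
def Orb (O : Subgroup G) (Y N : ι → Subgroup G) (l : ι) : Set ι := {i | ∃ g σ, Sg O Y N g σ ∧ σ l = i}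

theorem self_orb (l : ι) : l ∈ Orb O Y N l :=
  ⟨1, 1, ⟨cj_one _, fun i => by rw [cj_one]; rfl, fun i => by rw [cj_one]; rfl⟩, rfl⟩

theorem orb_orb {l i j : ι} (hi : i ∈ Orb O Y N l) (hj : j ∈ Orb O Y N l) :
    ∃ g σ, Sg O Y N g σ ∧ σ i = j := by
  obtain ⟨g, σ, s, rfl⟩ := hi
  obtain ⟨g', τ, t, rfl⟩ := hj
  exact ⟨_, _, sg_mul t (sg_inv s), by simp⟩

theorem mem_orb {l i : ι} (hi : i ∈ Orb O Y N l) {g : G} {σ : Equiv.Perm ι} (s : Sg O Y N g σ) :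
    σ i ∈ Orb O Y N l := by
  obtain ⟨g', τ, t, rfl⟩ := hi
  exact ⟨_, _, sg_mul s t, rfl⟩

theorem iSup_pair {l m : ι} (hlm : l ≠ m) :
    (⨆ i : {i // i ∉ ({i | i ≠ l ∧ i ≠ m} : Set ι)}, Y i) = Y l ⊔ Y m := by
  apply le_antisymm
  · refine iSup_le fun i => ?_
    have : (i : ι) = l ∨ (i : ι) = m := by
      by_contra hcon
      push Not at hcon
      exact i.2 hcon
    rcases this with e | e
    · rw [e]; exact le_sup_left
    · rw [e]; exact le_sup_right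
  · refine sup_le ?_ ?_
    · exact le_iSup (fun i : {i // i ∉ ({i | i ≠ l ∧ i ≠ m} : Set ι)} => Y i) ⟨l, fun h => h.1 rfl⟩
    · exact le_iSup (fun i : {i // i ∉ ({i | i ≠ l ∧ i ≠ m} : Set ι)} => Y i) ⟨m, fun h => h.2 rfl⟩

section main

variable (h : ESym.Fr O D ZJ Y N) (DO : D ≤ normalizer (O : Set G)) (NN : ∀ i j, N i ≤ centralizer (N j : Set G))
  (h3 : ∀ i j : ι, ∃ l, l ≠ i ∧ l ≠ j)
include h

include h3 in
theorem eab_pair {l m : ι} (hlm : l ≠ m) : IsElementaryAbelian 2 (EE ZJ (Y l ⊔ Y m)) := by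
  obtain ⟨n, hn1, hn2⟩ := h3 l m
  have := h.Eeab {i | i ≠ l ∧ i ≠ m} ⟨n, hn1, hn2⟩
  rwa [iSup_pair hlm] at this

include h3 in
theorem le_pair {l m : ι} (hlm : l ≠ m) : EE ZJ (Y l ⊔ Y m) ≤ O := by
  obtain ⟨n, hn1, hn2⟩ := h3 l m
  have := h.EO {i | i ≠ l ∧ i ≠ m} ⟨n, hn1, hn2⟩
  rwa [iSup_pair hlm] at this

include DO NN h3 in
/-- The frame of STAR (with `L = Y`). -/
theorem star : EK3.StarE.Fr O D ZJ Y N Y where
  OD := h.OD
  DO := DO
  OZ := h.OZ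
  DY := h.DY
  LY := fun _ => le_rfl
  YDL := fun _ => le_sup_right
  eab := h.eab
  NQ := fun i j => le_inf (h.NO i) (NN i j)
  YN := h.YN
  YQ := h.YQ
  no := h.no
  nl := fun U hU _ hY => h.nl U hU hY
  Eeab := fun _ _ => eab_pair h h3
  EO := fun _ _ => le_pair h h3
  NE := h.NE

variable [Finite G]

include DO NN h3 in
/-- **(1)** -/
theorem exists_aa [Finite ι] (hO : O ≠ ⊥) : ∃ A ∈ AA O, (∀ i, A ≤ centralizer (N i : Set G)) ∧
    ∃ l m, l ≠ m ∧ ¬ A ≤ centralizer (EE ZJ (Y l ⊔ Y m) : Set G) := by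
  obtain ⟨A, hA, hl, i, j, hij, x, hx, hmv⟩ := (star h DO NN h3).aa_star hO
  refine ⟨A, hA, hl, i, j, hij, fun hc => hmv ?_⟩
  have h1 : cj x A ≤ cj x (centralizer (EE ZJ (Y i ⊔ Y j) : Set G)) := cj_mono x hc
  rw [cj_centralizer, cj_eq_of_mem_normalizer (norm_EE ZJ (Y i ⊔ Y j) (le_sup_left (a := Y i) (b := Y j) hx))] at h1
  exact h1.trans (centralizer_le ((h.NE j).trans (EE_mono le_sup_right)))

/-- (b), (c) for a proper set of indices: -/
theorem rel_of_mover {Λ : Set ι} (hΛ : Λ.Nonempty) (hΛ' : Λᶜ.Nonempty) {A : Subgroup G} (hA : A ∈ AA O)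
    (hmv : ¬ A ≤ centralizer (EE ZJ (⨆ i : {i // i ∉ Λ}, Y i) : Set G)) :
    ∃ j, j ∉ Λ ∧ ∀ i, i ∉ Λ → Rel Y N i j := by
  set E := EE ZJ (⨆ i : {i // i ∉ Λ}, Y i) with hE
  obtain ⟨i₀, hi₀⟩ := hΛ'
  have d := h.dt hΛ
  rw [← hE] at d
  have hNE : ∀ i, i ∉ Λ → N i ≤ E := fun i hi => d.NE ⟨i, hi⟩
  have hYE : O ≤ normalizer (E : Set G) := (d.OY ⟨i₀, hi₀⟩).trans (d.YE ⟨i₀, hi₀⟩)
  have hoff := EK3.Lever.offd_of_AA (h.Eeab Λ hΛ) (h.EO Λ hΛ) hA (hA.2.1.trans hYE) hmv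
  obtain ⟨j, F, hFO, -, hFm, hFc⟩ := d.lever hA.2.1 hA.1 hoff
  exact ⟨j, j.2, fun i hi => h.rel_of (d.YE j) hFO hFm hFc (hNE i hi)⟩

omit [Finite G] in
/-- If `Y l` and `Y m` normalise `N l N m`, then `E_{lm} = N l N m ZJ`. -/
theorem EE_le_of_rel (ZY : ∀ i, ∀ y ∈ Y i, ∀ z ∈ ZJ, y * z * y⁻¹ ∈ N i ⊔ ZJ) {l m : ι} (h1 : Rel Y N l m)
    (h2 : Rel Y N m l) : EE ZJ (Y l ⊔ Y m) ≤ N l ⊔ N m ⊔ ZJ := by
  have hl : Y l ≤ normalizer ((N l ⊔ N m ⊔ ZJ : Subgroup G) : Set G) := le_norm_of_cj_le fun y hy => by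
    rw [cj_sup]
    refine sup_le ?_ ?_
    · have h2' : Y l ≤ normalizer ((N l ⊔ N m : Subgroup G) : Set G) := by
        unfold Rel at h2
        rwa [sup_comm (N m) (N l)] at h2
      rw [cj_eq_of_mem_normalizer (h2' hy)]
      exact le_sup_left
    · rintro _ ⟨z, hz, rfl⟩
      exact (sup_le_sup_right le_sup_left ZJ : N l ⊔ ZJ ≤ N l ⊔ N m ⊔ ZJ) (ZY l y hy z hz)
  have hm : Y m ≤ normalizer ((N l ⊔ N m ⊔ ZJ : Subgroup G) : Set G) := le_norm_of_cj_le fun y hy => by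
    rw [cj_sup]
    refine sup_le ?_ ?_
    · rw [cj_eq_of_mem_normalizer (h1 hy)]
      exact le_sup_left
    · rintro _ ⟨z, hz, rfl⟩
      exact (sup_le_sup_right le_sup_right ZJ : N m ⊔ ZJ ≤ N l ⊔ N m ⊔ ZJ) (ZY m y hy z hz)
  refine EE_le fun y hy => ?_
  have h4 := cj_mono y (le_sup_right (a := N l ⊔ N m) (b := ZJ))
  rwa [cj_eq_of_mem_normalizer (sup_le hl hm hy)] at h4

include h3 in
/-- **(2)** no element acts as the transposition `(l m)`. -/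
theorem no_swap [Finite ι] (ZY : ∀ i, ∀ y ∈ Y i, ∀ z ∈ ZJ, y * z * y⁻¹ ∈ N i ⊔ ZJ) {A : Subgroup G} (hA : A ∈ AA O)
    (hAN : ∀ i, A ≤ centralizer (N i : Set G)) {l m : ι} (hlm : l ≠ m)
    (hmv : ¬ A ≤ centralizer (EE ZJ (Y l ⊔ Y m) : Set G)) {g : G} {σ : Equiv.Perm ι} (s : Sg O Y N g σ)
    (sl : σ l = m) (sm : σ m = l) (so : ∀ i, i ≠ l → i ≠ m → σ i = i) : False := by
  by_cases hc : ∀ i, i ∈ Orb O Y N l
  · exact h.false_of_swap (fun i j => orb_orb (hc i) (hc j)) h3 hlm s sl sm so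
  push Not at hc
  obtain ⟨n, hn⟩ := hc
  have hl : l ∈ Orb O Y N l := self_orb l
  have hm : m ∈ Orb O Y N l := ⟨g, σ, s, sl⟩
  have hle : Y l ⊔ Y m ≤ ⨆ i : {i // i ∉ (Orb O Y N l)ᶜ}, Y i := by
    refine sup_le ?_ ?_
    · exact le_iSup (fun i : {i // i ∉ (Orb O Y N l)ᶜ} => Y i) ⟨l, fun h => h hl⟩
    · exact le_iSup (fun i : {i // i ∉ (Orb O Y N l)ᶜ} => Y i) ⟨m, fun h => h hm⟩
  obtain ⟨j, hj, hr⟩ := rel_of_mover h (Λ := (Orb O Y N l)ᶜ) ⟨n, hn⟩ ⟨l, fun h => h hl⟩ hA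
    fun hc => hmv (hc.trans (centralizer_le (EE_mono hle)))
  rw [Set.notMem_compl_iff] at hj
  have hall : ∀ i ∈ Orb O Y N l, ∀ k ∈ Orb O Y N l, Rel Y N i k := by
    intro i hi k hk
    obtain ⟨g', τ, t, rfl⟩ := orb_orb hj hk
    have h5 : τ⁻¹ i ∈ Orb O Y N l := mem_orb hi (sg_inv t)
    have h6 := t.rel (hr (τ⁻¹ i) fun h => h h5)
    rwa [CoreS.inv_r τ i] at h6
  refine hmv ?_
  have h7 := EE_le_of_rel h ZY (hall l hl m hm) (hall m hm l hl)
  have h8 : A ≤ centralizer (((N l ⊔ N m ⊔ ZJ : Subgroup G)) : Set G) := by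
    rw [Subgroup.le_centralizer_iff]
    refine sup_le (sup_le ?_ ?_) ?_
    · exact Subgroup.le_centralizer_iff.1 (hAN l)
    · exact Subgroup.le_centralizer_iff.1 (hAN m)
    · exact Subgroup.le_centralizer_iff.1 (hA.2.1.trans h.OZ)
  exact h8.trans (centralizer_le h7)

include DO NN h3 in
/-- **THEOREM U, (1) and (2).** -/
theorem main [Finite ι] (hO : O ≠ ⊥) (ZY : ∀ i, ∀ y ∈ Y i, ∀ z ∈ ZJ, y * z * y⁻¹ ∈ N i ⊔ ZJ) :
    ∃ A ∈ AA O, (∀ i, A ≤ centralizer (N i : Set G)) ∧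
      ∃ l m, l ≠ m ∧ ¬ A ≤ centralizer (EE ZJ (Y l ⊔ Y m) : Set G) ∧
        ∀ (g : G) (σ : Equiv.Perm ι), Sg O Y N g σ → σ l = m → σ m = l → (∀ i, i ≠ l → i ≠ m → σ i = i) → False := by
  obtain ⟨A, hA, hAN, l, m, hlm, hmv⟩ := exists_aa h DO NN h3 hO
  exact ⟨A, hA, hAN, l, m, hlm, hmv, fun _ _ s sl sm so => no_swap h h3 ZY hA hAN hlm hmv s sl sm so⟩

end main

/-- (2), group form: `B` is a maximal 2-subgroup of `X`, if `B` is one of `D`, `N_G(B)` permutes the `z n` by `Sg`-elements and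
an element fixing all `z n` is in `D`. -/
theorem le_of_syl [Finite G] [Finite ι] {B X : Subgroup G} {z : ι → Subgroup G} {l m : ι} (hlm : l ≠ m)
    (hperm : ∀ g ∈ normalizer (B : Set G), ∃ σ : Equiv.Perm ι, Sg O Y N g σ ∧ ∀ n, cj g (z n) = z (σ n))
    (hinj : Function.Injective z)
    (hfix : ∀ g ∈ X, ∀ n, n ≠ l → n ≠ m → cj g (z n) = z n)
    (hD : ∀ g ∈ X, g ∈ normalizer (B : Set G) → (∀ n, cj g (z n) = z n) → g ∈ D)
    (syl : ∀ R : Subgroup G, R ≤ D → IsPGroup 2 R → B ≤ R → R ≤ B)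
    (hns : ∀ (g : G) (σ : Equiv.Perm ι), Sg O Y N g σ → σ l = m → σ m = l → (∀ i, i ≠ l → i ≠ m → σ i = i) → False)
    {R : Subgroup G} (hRX : R ≤ X) (hR : IsPGroup 2 R) (hBR : B ≤ R) : R ≤ B := by
  have : Fact (Nat.Prime 2) := ⟨Nat.prime_two⟩
  have key : R ⊓ normalizer (B : Set G) ≤ D := by
    intro g hg
    obtain ⟨σ, s, hz⟩ := hperm g hg.2
    have hf : ∀ n, n ≠ l → n ≠ m → σ n = n := fun n h1 h2 => hinj (by rw [← hz, hfix g (hRX hg.1) n h1 h2])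
    have hlm' : σ l = l ∨ σ l = m := by
      by_contra hcon
      push Not at hcon
      have := hf (σ l) hcon.1 hcon.2
      exact hcon.1 (σ.injective this)
    rcases hlm' with e | e
    · have em : σ m = m := by
        by_contra hne
        have h1 : σ m ≠ l := fun h2 => hlm (σ.injective (e.trans h2.symm))
        have := hf (σ m) h1 hne
        exact hne (σ.injective this)
      refine hD g (hRX hg.1) hg.2 fun n => ?_
      rw [hz]
      by_cases h1 : n = l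
      · rw [h1, e]
      by_cases h2 : n = m
      · rw [h2, em]
      rw [hf n h1 h2]
    · have em : σ m = l := by
        by_contra hne
        have h1 : σ m ≠ m := fun h2 => hlm (σ.injective (e.trans h2.symm))
        have := hf (σ m) hne h1
        exact h1 (σ.injective this)
      exact (hns g σ s e em hf).elim
  have h1 : R ⊓ normalizer (B : Set G) ≤ B :=
    syl _ key (hR.to_le inf_le_left) (le_inf hBR Subgroup.le_normalizer)
  -- normalisers grow in `R`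
  by_contra hne
  have hlt : B < R := lt_of_le_of_ne hBR fun e => hne (by rw [← e])
  have hlt' : B.subgroupOf R < ⊤ := by
    rw [lt_top_iff_ne_top]
    intro e
    exact hne (Subgroup.subgroupOf_eq_top.1 e)
  have hnil : Group.IsNilpotent R := hR.isNilpotent
  have hnc := Group.normalizerCondition_of_isNilpotent (G := R) (B.subgroupOf R) hlt'
  obtain ⟨x, hx, hxn⟩ := Set.exists_of_ssubset hnc
  refine hxn ?_
  have hxn' : (x : G) ∈ normalizer (B : Set G) := by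
    rw [SetLike.mem_coe, mem_normalizer_iff] at hx
    rw [mem_normalizer_iff]
    intro y
    constructor
    · intro hy
      have := (hx ⟨y, hBR hy⟩).1 hy
      exact this
    · intro hy
      have hyR : y ∈ R := by
        have := hBR hy
        have h2 := mul_mem (mul_mem (inv_mem x.2) this) x.2
        have e : (x : G)⁻¹ * ((x : G) * y * (x : G)⁻¹) * x = y := by group
        rwa [e] at h2
      exact (hx ⟨y, hyR⟩).2 hy
  exact h1 ⟨x.2, hxn'⟩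

end Cfsg.Agent.Omega.ESym.ThU
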